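import Mathlib
import Cfsg.Agent.H777.M5.PGDef

/-!
# Finite checks for the coordinates of the Sylow 5-subgroup of the Monster (helper255)
-/

set_option autoImplicit false

namespace Cfsg.Agent.H255.M5D

open Cfsg.Agent.H777.M5 Matrix

abbrev F := ZMod 5
abbrev M2 := Matrix (Fin 2) (Fin 2) (ZMod 5)
abbrev M6 := Matrix (Fin 6) (Fin 6) (ZMod 5)

def D2 : M2 := !![2, 0; 0, 3]
def J2 : M2 := !![0, 4; 1, 0]
def X0 : M2 := !![1, 4; 0, 1]

/-- multiplication of pairs `X + Y e`, `e ^ 2 = 0` -/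
def pm (P Q : M2 × M2) : M2 × M2 := (P.1 * Q.1, P.1 * Q.2 + P.2 * Q.1)
def pw3 (P : M2 × M2) : M2 × M2 := pm (pm P P) P
def pw5 (P : M2 × M2) : M2 × M2 := pm (pm (pm P P) (pm P P)) P

theorem fin1 : ∀ p q r s : ZMod 5, !![p, q; r, s] * D2 * !![p, q; r, s] = D2 →
    (J2 * !![p, q; r, s]) * (J2 * !![p, q; r, s]) * (J2 * !![p, q; r, s]) = 1 →
    (D2 * J2 * !![p, q; r, s]) * (D2 * J2 * !![p, q; r, s]) * ((D2 * J2 * !![p, q; r, s]) * (D2 * J2 * !![p, q; r, s])) *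
      (D2 * J2 * !![p, q; r, s]) = 1 →
    (!![p, q; r, s] : M2) * !![p, q; r, s] * (!![p, q; r, s] * !![p, q; r, s]) * !![p, q; r, s] = 1 →
    !![p, q; r, s] = X0 := by
  decide +kernel

theorem fin2 : ∀ p q r s : ZMod 5, pm (pm (X0, !![p, q; r, s]) (D2, 0)) (X0, !![p, q; r, s]) = (D2, 0) →
    pw3 (pm (J2, 0) (X0, !![p, q; r, s])) = (1, 0) →
    pw5 (pm (pm (D2, 0) (J2, 0)) (X0, !![p, q; r, s])) = (1, 0) → q = 3 * p ∧ r = 3 * p ∧ s = p := by
  decide +kernel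

/-- `X ⊗ 1 + Y ⊗ N ^ 2` -/
def K (P : M2 × M2) : M6 :=
  !![P.1 0 0, 0, P.2 0 0, P.1 0 1, 0, P.2 0 1;
     0, P.1 0 0, 0, 0, P.1 0 1, 0;
     0, 0, P.1 0 0, 0, 0, P.1 0 1;
     P.1 1 0, 0, P.2 1 0, P.1 1 1, 0, P.2 1 1;
     0, P.1 1 0, 0, 0, P.1 1 1, 0;
     0, 0, P.1 1 0, 0, 0, P.1 1 1]

/-- the literal form -/
def Kl (a b c d a' b' c' d' : F) : M6 :=
  !![a, 0, a', b, 0, b'; 0, a, 0, 0, b, 0; 0, 0, a, 0, 0, b; c, 0, c', d, 0, d'; 0, c, 0, 0, d, 0; 0, 0, c, 0, 0, d]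

theorem K_eq (P : M2 × M2) : K P = Kl (P.1 0 0) (P.1 0 1) (P.1 1 0) (P.1 1 1) (P.2 0 0) (P.2 0 1) (P.2 1 0) (P.2 1 1) :=
  rfl

set_option maxHeartbeats 4000000 in
theorem Kl_mul (a b c d a' b' c' d' e f g h e' f' g' h' : F) :
    Kl a b c d a' b' c' d' * Kl e f g h e' f' g' h' =
      Kl (a * e + b * g) (a * f + b * h) (c * e + d * g) (c * f + d * h) (a * e' + b * g' + (a' * e + b' * g))
        (a * f' + b * h' + (a' * f + b' * h)) (c * e' + d * g' + (c' * e + d' * g))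
        (c * f' + d * h' + (c' * f + d' * h)) := by
  unfold Kl
  ext i j
  fin_cases i <;> fin_cases j <;> simp [Matrix.mul_apply, Fin.sum_univ_six] <;> ring

theorem K_mul (P Q : M2 × M2) : K P * K Q = K (pm P Q) := by
  have h1 : ∀ i j, (P.1 * Q.1) i j = P.1 i 0 * Q.1 0 j + P.1 i 1 * Q.1 1 j := fun i j => by
    rw [Matrix.mul_apply, Fin.sum_univ_two]
  have h2 : ∀ i j, (P.1 * Q.2 + P.2 * Q.1) i j = P.1 i 0 * Q.2 0 j + P.1 i 1 * Q.2 1 j +
      (P.2 i 0 * Q.1 0 j + P.2 i 1 * Q.1 1 j) := fun i j => by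
    rw [Matrix.add_apply, Matrix.mul_apply, Matrix.mul_apply, Fin.sum_univ_two, Fin.sum_univ_two]
  rw [K_eq, K_eq, Kl_mul, K_eq, pm]
  simp only [h1, h2]

theorem K_inj {P Q : M2 × M2} (h : K P = K Q) : P = Q := by
  have h' : ∀ i j, K P i j = K Q i j := fun i j => by rw [h]
  refine Prod.ext ?_ ?_
  · ext i j
    fin_cases i <;> fin_cases j
    · exact h' 0 0
    · exact h' 0 3
    · exact h' 3 0
    · exact h' 3 3
  · ext i j
    fin_cases i <;> fin_cases j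
    · exact h' 0 2
    · exact h' 0 5
    · exact h' 3 2
    · exact h' 3 5

theorem K_one : K (1, 0) = 1 := by
  ext i j
  fin_cases i <;> fin_cases j <;> simp [K]

def D6 : M6 := K (D2, 0)
def J6 : M6 := K (J2, 0)

/-- the matrix of `N = log b` -/
def n6 : M6 :=
  !![0, 1, 0, 0, 0, 0;
     0, 0, 1, 0, 0, 0;
     0, 0, 0, 0, 0, 0;
     0, 0, 0, 0, 1, 0;
     0, 0, 0, 0, 0, 1;
     0, 0, 0, 0, 0, 0]

/-- the matrix of `t`, up to sign -/
def t6 : M6 := Matrix.diagonal ![1, -1, 1, 1, -1, 1]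

/-- the matrices commuting with `n6` and `t6` -/
theorem exists_K {a : M6} (h1 : a * n6 = n6 * a) (h2 : a * t6 = t6 * a) : ∃ P : M2 × M2, a = K P := by
  have e2 : ∀ i j, a i j * (![1, -1, 1, 1, -1, 1] j : F) = (![1, -1, 1, 1, -1, 1] i : F) * a i j := by
    intro i j
    have := congrFun (congrFun h2 i) j
    rwa [t6, Matrix.mul_diagonal, Matrix.diagonal_mul] at this
  have z : ∀ x : F, x * -1 = 1 * x → x = 0 := by decide
  have z' : ∀ x : F, x * 1 = -1 * x → x = 0 := by decide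
  have e1 : ∀ i j, (a * n6) i j = (n6 * a) i j := fun i j => by rw [h1]
  simp only [Matrix.mul_apply, Fin.sum_univ_six] at e1
  have p01 : a 0 1 = 0 := z _ (e2 0 1)
  have p04 : a 0 4 = 0 := z _ (e2 0 4)
  have p10 : a 1 0 = 0 := z' _ (e2 1 0)
  have p12 : a 1 2 = 0 := z' _ (e2 1 2)
  have p13 : a 1 3 = 0 := z' _ (e2 1 3)
  have p15 : a 1 5 = 0 := z' _ (e2 1 5)
  have p21 : a 2 1 = 0 := z _ (e2 2 1)
  have p24 : a 2 4 = 0 := z _ (e2 2 4)
  have p31 : a 3 1 = 0 := z _ (e2 3 1)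
  have p34 : a 3 4 = 0 := z _ (e2 3 4)
  have p40 : a 4 0 = 0 := z' _ (e2 4 0)
  have p42 : a 4 2 = 0 := z' _ (e2 4 2)
  have p43 : a 4 3 = 0 := z' _ (e2 4 3)
  have p45 : a 4 5 = 0 := z' _ (e2 4 5)
  have p51 : a 5 1 = 0 := z _ (e2 5 1)
  have p54 : a 5 4 = 0 := z _ (e2 5 4)
  have q01 : a 0 0 = a 1 1 := by simpa [n6] using e1 0 1
  have q04 : a 0 3 = a 1 4 := by simpa [n6] using e1 0 4
  have q10 : 0 = a 2 0 := by simpa [n6] using e1 1 0
  have q12 : a 1 1 = a 2 2 := by simpa [n6] using e1 1 2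
  have q13 : 0 = a 2 3 := by simpa [n6] using e1 1 3
  have q15 : a 1 4 = a 2 5 := by simpa [n6] using e1 1 5
  have q21 : a 2 0 = 0 := by simpa [n6] using e1 2 1
  have q24 : a 2 3 = 0 := by simpa [n6] using e1 2 4
  have q31 : a 3 0 = a 4 1 := by simpa [n6] using e1 3 1
  have q34 : a 3 3 = a 4 4 := by simpa [n6] using e1 3 4
  have q40 : 0 = a 5 0 := by simpa [n6] using e1 4 0
  have q42 : a 4 1 = a 5 2 := by simpa [n6] using e1 4 2
  have q43 : 0 = a 5 3 := by simpa [n6] using e1 4 3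
  have q45 : a 4 4 = a 5 5 := by simpa [n6] using e1 4 5
  have q51 : a 5 0 = 0 := by simpa [n6] using e1 5 1
  have q54 : a 5 3 = 0 := by simpa [n6] using e1 5 4
  refine ⟨(!![a 0 0, a 0 3; a 3 0, a 3 3], !![a 0 2, a 0 5; a 3 2, a 3 5]), ?_⟩
  ext i j
  fin_cases i <;> fin_cases j
  · exact rfl
  · exact p01
  · exact rfl
  · exact rfl
  · exact p04
  · exact rfl
  · exact p10
  · exact q01.symm
  · exact p12
  · exact p13
  · exact q04.symm
  · exact p15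
  · exact q21
  · exact p21
  · exact (q01.trans q12).symm
  · exact q24
  · exact p24
  · exact (q04.trans q15).symm
  · exact rfl
  · exact p31
  · exact rfl
  · exact rfl
  · exact p34
  · exact rfl
  · exact p40
  · exact q31.symm
  · exact p42
  · exact p43
  · exact q34.symm
  · exact p45
  · exact q51
  · exact p51
  · exact (q31.trans q42).symm
  · exact q54
  · exact p54
  · exact (q34.trans q45).symm

/-- the first finite check, in `K` form -/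
theorem eq_X0 {P : M2 × M2} (h1 : K P * D6 * K P = D6) (h2 : (J6 * K P) * (J6 * K P) * (J6 * K P) = 1)
    (h3 : (D6 * J6 * K P) * (D6 * J6 * K P) * ((D6 * J6 * K P) * (D6 * J6 * K P)) * (D6 * J6 * K P) = 1)
    (h4 : K P * K P * (K P * K P) * K P = 1) : ∃ d : F, P = (X0, !![d, 3 * d; 3 * d, d]) := by
  rw [← K_one] at h2 h3 h4
  unfold D6 at h1 h3
  unfold J6 at h2 h3
  simp only [K_mul] at h1 h2 h3 h4
  have k1 := K_inj h1
  have k2 := K_inj h2
  have k3 := K_inj h3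
  have k4 := K_inj h4
  have e : P.1 = !![P.1 0 0, P.1 0 1; P.1 1 0, P.1 1 1] := Matrix.eta_fin_two _
  have e' : P.2 = !![P.2 0 0, P.2 0 1; P.2 1 0, P.2 1 1] := Matrix.eta_fin_two _
  have c1 : P.1 = X0 := by
    have l1 : P.1 * D2 * P.1 = D2 := congrArg Prod.fst k1
    have l2 : (J2 * P.1) * (J2 * P.1) * (J2 * P.1) = 1 := congrArg Prod.fst k2
    have l3 : (D2 * J2 * P.1) * (D2 * J2 * P.1) * ((D2 * J2 * P.1) * (D2 * J2 * P.1)) * (D2 * J2 * P.1) = 1 :=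
      congrArg Prod.fst k3
    have l4 : P.1 * P.1 * (P.1 * P.1) * P.1 = 1 := congrArg Prod.fst k4
    rw [e] at l1 l2 l3 l4 ⊢
    exact fin1 _ _ _ _ l1 l2 l3 l4
  have c2 : P = (X0, !![P.2 0 0, P.2 0 1; P.2 1 0, P.2 1 1]) := Prod.ext c1 e'
  rw [c2] at k1 k2 k3
  obtain ⟨r1, r2, r3⟩ := fin2 _ _ _ _ k1 k2 k3
  exact ⟨P.2 0 0, by rw [r1, r2, r3] at c2; exact c2⟩

/-- the matrix of `b'` -/
def B6 : M6 :=
  !![1, 0, 0, 0, 0, 0;
     3, 1, 0, 0, 0, 0;
     2, 3, 1, 0, 0, 0;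
     0, 0, 0, 1, 0, 0;
     0, 0, 0, 3, 1, 0;
     0, 0, 0, 2, 3, 1]

/-- the last finite check -/
theorem fin3 : ∀ d : F, let m := K (X0, !![d, 3 * d; 3 * d, d]) * B6
    (let m3 := m * m * m; let m5 := m3 * m * m; m5 * m5 * m5 = 1 ∨ m5 * m5 * m5 = -1) →
    (K (X0, !![d, 3 * d; 3 * d, d]) * B6 ≠ B6 * K (X0, !![d, 3 * d; 3 * d, d])) → K (X0, !![d, 3 * d; 3 * d, d]) = aM := by
  decide +kernel

/-- the skew matrices anticommuting with `t6` and commuting with `D6`, `J6` -/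
def Zm (l n : F) : M6 :=
  !![0, l, 0, 0, 0, 0;
     n, 0, l, 0, 0, 0;
     0, n, 0, 0, 0, 0;
     0, 0, 0, 0, l, 0;
     0, 0, 0, n, 0, l;
     0, 0, 0, 0, n, 0]

theorem D6_eq : D6 = Matrix.diagonal ![2, 2, 2, 3, 3, 3] := by decide +kernel

theorem exists_Zm {z : M6} (h1 : z * t6 = -(t6 * z)) (h2 : z * D6 = D6 * z) (h3 : z * J6 = J6 * z)
    (h4 : ∀ u v, om (z *ᵥ u) v = -om u (z *ᵥ v)) : ∃ l n : F, z = Zm l n := by
  have e1 : ∀ i j, z i j * (![1, -1, 1, 1, -1, 1] j : F) = -((![1, -1, 1, 1, -1, 1] i : F) * z i j) := by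
    intro i j
    have := congrFun (congrFun h1 i) j
    rwa [t6, Matrix.mul_diagonal, Matrix.neg_apply, Matrix.diagonal_mul] at this
  have e2 : ∀ i j, z i j * (![2, 2, 2, 3, 3, 3] j : F) = (![2, 2, 2, 3, 3, 3] i : F) * z i j := by
    intro i j
    have := congrFun (congrFun h2 i) j
    rwa [D6_eq, Matrix.mul_diagonal, Matrix.diagonal_mul] at this
  have e3 : ∀ i j, (z * J6) i j = (J6 * z) i j := fun i j => by rw [h3]
  have a1 : ∀ x : F, x * 1 = -(1 * x) → x = 0 := by decide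
  have a2 : ∀ x : F, x * -1 = -(-1 * x) → x = 0 := by decide
  have b1 : ∀ x : F, x * 3 = 2 * x → x = 0 := by decide
  have b2 : ∀ x : F, x * 2 = 3 * x → x = 0 := by decide
  simp only [Matrix.mul_apply, Fin.sum_univ_six] at e3
  have c4 : ∀ x y : F, x * 4 = 4 * y → x = y := by decide
  have p00 : z 0 0 = 0 := a1 _ (e1 0 0)
  have p02 : z 0 2 = 0 := a1 _ (e1 0 2)
  have p03 : z 0 3 = 0 := a1 _ (e1 0 3)
  have p04 : z 0 4 = 0 := b1 _ (e2 0 4)
  have p05 : z 0 5 = 0 := a1 _ (e1 0 5)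
  have p11 : z 1 1 = 0 := a2 _ (e1 1 1)
  have p13 : z 1 3 = 0 := b1 _ (e2 1 3)
  have p14 : z 1 4 = 0 := a2 _ (e1 1 4)
  have p15 : z 1 5 = 0 := b1 _ (e2 1 5)
  have p20 : z 2 0 = 0 := a1 _ (e1 2 0)
  have p22 : z 2 2 = 0 := a1 _ (e1 2 2)
  have p23 : z 2 3 = 0 := a1 _ (e1 2 3)
  have p24 : z 2 4 = 0 := b1 _ (e2 2 4)
  have p25 : z 2 5 = 0 := a1 _ (e1 2 5)
  have p30 : z 3 0 = 0 := a1 _ (e1 3 0)
  have p31 : z 3 1 = 0 := b2 _ (e2 3 1)
  have p32 : z 3 2 = 0 := a1 _ (e1 3 2)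
  have p33 : z 3 3 = 0 := a1 _ (e1 3 3)
  have p35 : z 3 5 = 0 := a1 _ (e1 3 5)
  have p40 : z 4 0 = 0 := b2 _ (e2 4 0)
  have p41 : z 4 1 = 0 := a2 _ (e1 4 1)
  have p42 : z 4 2 = 0 := b2 _ (e2 4 2)
  have p44 : z 4 4 = 0 := a2 _ (e1 4 4)
  have p50 : z 5 0 = 0 := a1 _ (e1 5 0)
  have p51 : z 5 1 = 0 := b2 _ (e2 5 1)
  have p52 : z 5 2 = 0 := a1 _ (e1 5 2)
  have p53 : z 5 3 = 0 := a1 _ (e1 5 3)
  have p55 : z 5 5 = 0 := a1 _ (e1 5 5)
  have q04 : z 0 1 = z 3 4 := by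
    have := e3 0 4
    simp [J6, K, J2] at this
    exact c4 _ _ this
  have q13 : z 1 0 = z 4 3 := by
    have := e3 1 3
    simp [J6, K, J2] at this
    exact c4 _ _ this
  have q15 : z 1 2 = z 4 5 := by
    have := e3 1 5
    simp [J6, K, J2] at this
    exact c4 _ _ this
  have q24 : z 2 1 = z 5 4 := by
    have := e3 2 4
    simp [J6, K, J2] at this
    exact c4 _ _ this
  have s1 : z 0 1 = z 4 5 := by
    have := h4 (Pi.single 1 1) (Pi.single 5 1)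
    simpa [om] using this
  have s2 : z 2 1 = z 4 3 := by
    have := h4 (Pi.single 1 1) (Pi.single 3 1)
    simpa [om] using this
  refine ⟨z 0 1, z 1 0, ?_⟩
  ext i j
  fin_cases i <;> fin_cases j
  · exact p00
  · exact rfl
  · exact p02
  · exact p03
  · exact p04
  · exact p05
  · exact rfl
  · exact p11
  · exact (s1.trans q15.symm).symm
  · exact p13
  · exact p14
  · exact p15
  · exact p20
  · exact s2.trans q13.symm
  · exact p22
  · exact p23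
  · exact p24
  · exact p25
  · exact p30
  · exact p31
  · exact p32
  · exact p33
  · exact q04.symm
  · exact p35
  · exact p40
  · exact p41
  · exact p42
  · exact q13.symm
  · exact p44
  · exact s1.symm
  · exact p50
  · exact p51
  · exact p52
  · exact p53
  · exact (q24.symm.trans (s2.trans q13.symm))
  · exact p55

theorem fin4 : ∀ l n : F, let b := 1 + Zm l n + 3 • (Zm l n * Zm l n)
    (let m := bM * b; m * m * m = 1 ∨ m * m * m = -1) → (let m := bM * (b * b); m * m = 1 ∨ m * m = -1) →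
    b = B6 := by
  decide +kernel

theorem bM_eq : bM = 1 + n6 + 3 • (n6 * n6) := by decide +kernel

end Cfsg.Agent.H255.M5D
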