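import Mathlib
import Cfsg.Agent.H255.M5D.Mat

/-!
# Linear algebra over `F_5` in dimension 6: the normal form (helper255)
-/

set_option autoImplicit false

namespace Cfsg.Agent.H255.M5D

open Cfsg.Agent.H777.M5 Matrix

attribute [-instance] AddSubgroupClass.instZModModule

instance fact5 : Fact (Nat.Prime 5) := ⟨by norm_num⟩

abbrev E6 := Module.End F V6

theorem five_smul (v : V6) : (5 : F) • v = 0 := by
  have h : (5 : F) = 0 := by decide
  rw [h, zero_smul]

theorem five_eq_zero : (5 : E6) = 0 := by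
  refine LinearMap.ext fun v => ?_
  show (5 : ℕ) • v = 0
  rw [← five_smul v]
  module

/-! ### logarithms in a ring of characteristic 5 -/

section Ring

variable {R : Type*} [Ring R]

/-- the logarithm of a unipotent element -/
def lg (X : R) : R := (X - 1) - 3 • ((X - 1) * (X - 1))

theorem sub_one_pow_five (h5 : (5 : R) = 0) {X : R} (h : X ^ 5 = 1) : (X - 1) ^ 5 = 0 := by
  have e : (X - 1) ^ 5 = (X ^ 5 - 1) - (5 : ℕ) • (X ^ 4 - 2 • X ^ 3 + 2 • X ^ 2 - X) := by noncomm_ring
  have e5 : ∀ Y : R, (5 : ℕ) • Y = 0 := fun Y => by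
    rw [nsmul_eq_mul]
    push_cast
    rw [h5, zero_mul]
  rw [e, h, e5, sub_self, sub_zero]

theorem comm_lg {Y X : R} (h : Y * X = X * Y) : Y * lg X = lg X * Y := by
  have h1 : Commute Y (X - 1) := (show Commute Y X from h).sub_right (Commute.one_right _)
  exact h1.sub_right ((h1.mul_right h1).smul_right 3)

variable {X T : R} (h3 : (X - 1) * (X - 1) * (X - 1) = 0)

include h3

theorem lg_sq : lg X * lg X = (X - 1) * (X - 1) := by
  unfold lg
  generalize X - 1 = n at h3 ⊢
  have : (n - 3 • (n * n)) * (n - 3 • (n * n)) = n * n - 6 • (n * n * n) + 9 • (n * n * n * n) := by noncomm_ring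
  rw [this, h3]
  simp

theorem lg_cube : lg X * lg X * lg X = 0 := by
  rw [lg_sq h3]
  unfold lg
  generalize X - 1 = n at h3 ⊢
  have : n * n * (n - 3 • (n * n)) = n * n * n - 3 • (n * n * n * n) := by noncomm_ring
  rw [this, h3]
  simp

theorem eq_exp : X = 1 + lg X + 3 • (lg X * lg X) := by
  rw [lg_sq h3]
  unfold lg
  abel

variable (hT : T * T = 1) (hX : X * T * X = T)

include hT hX

theorem conj_inv : T * X * T = 1 - (X - 1) + (X - 1) * (X - 1) := by
  have e1 : X * (T * X * T) = 1 := by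
    have : X * (T * X * T) = X * T * X * T := by noncomm_ring
    rw [this, hX, hT]
  have e2 : (1 - (X - 1) + (X - 1) * (X - 1)) * X = 1 := by
    have : (1 - (X - 1) + (X - 1) * (X - 1)) * X = 1 + (X - 1) * (X - 1) * (X - 1) := by noncomm_ring
    rw [this, h3, add_zero]
  calc T * X * T = (1 - (X - 1) + (X - 1) * (X - 1)) * X * (T * X * T) := by rw [e2, one_mul]
    _ = (1 - (X - 1) + (X - 1) * (X - 1)) * (X * (T * X * T)) := by rw [mul_assoc]
    _ = _ := by rw [e1, mul_one]

/-- `n ↦ T n T` for `n = X - 1` -/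
theorem conj_sub : T * (X - 1) * T = -(X - 1) + (X - 1) * (X - 1) := by
  have e : T * (X - 1) * T = T * X * T - T * T := by noncomm_ring
  rw [e, conj_inv h3 hT hX, hT]
  abel

theorem conj_lg (h5 : (5 : R) = 0) : T * lg X * T = -lg X := by
  have h1 := conj_sub h3 hT hX
  have e5 : ∀ Y : R, (5 : ℕ) • Y = 0 := fun Y => by
    rw [nsmul_eq_mul]
    push_cast
    rw [h5, zero_mul]
  unfold lg
  generalize X - 1 = n at h3 h1 ⊢
  have e1 : T * (n - 3 • (n * n)) * T = T * n * T - 3 • ((T * n) * 1 * (n * T)) := by noncomm_ring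
  rw [e1, ← hT]
  have e2 : T * n * (T * T) * (n * T) = (T * n * T) * (T * n * T) := by noncomm_ring
  rw [e2, h1]
  have e3 : -n + n * n - 3 • ((-n + n * n) * (-n + n * n)) =
      -(n - 3 • (n * n)) - 5 • (n * n) + 6 • (n * n * n) - 3 • (n * n * n * n) := by noncomm_ring
  rw [e3, h3, e5]
  simp

theorem T_lg (h5 : (5 : R) = 0) : T * lg X = -(lg X * T) := by
  have h1 := conj_lg h3 hT hX h5
  calc T * lg X = T * lg X * (T * T) := by rw [hT, mul_one]
    _ = (T * lg X * T) * T := by noncomm_ring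
    _ = _ := by rw [h1, neg_mul]

end Ring

/-- a symplectic form and operators `I`, `J`, `T` -/
structure Base where
  om' : V6 →ₗ[F] V6 →ₗ[F] F
  alt : ∀ v, om' v v = 0
  nd : ∀ u, (∀ v, om' u v = 0) → u = 0
  I : E6
  J : E6
  T : E6
  iI : ∀ u v, om' (I u) (I v) = om' u v
  iJ : ∀ u v, om' (J u) (J v) = om' u v
  iT : ∀ u v, om' (T u) (T v) = om' u v
  II : I * I = -1
  JJ : J * J = -1
  IJ : I * J = -(J * I)
  TI : T * I = I * T
  TJ : T * J = J * T
  TT : T * T = 1

namespace Base

variable (S : Base)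

theorem skew (u v : V6) : S.om' u v = -S.om' v u := by
  have h := S.alt (u + v)
  simp only [map_add, LinearMap.add_apply, S.alt] at h
  linear_combination h

theorem II' (v : V6) : S.I (S.I v) = -v := by
  have := congrArg (fun X : E6 => X v) S.II
  exact this

theorem JJ' (v : V6) : S.J (S.J v) = -v := by
  have := congrArg (fun X : E6 => X v) S.JJ
  exact this

theorem IJ' (v : V6) : S.I (S.J v) = -S.J (S.I v) := by
  have := congrArg (fun X : E6 => X v) S.IJ
  exact this

theorem TT' (v : V6) : S.T (S.T v) = v := by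
  have := congrArg (fun X : E6 => X v) S.TT
  exact this

theorem TI' (v : V6) : S.T (S.I v) = S.I (S.T v) := by
  have := congrArg (fun X : E6 => X v) S.TI
  exact this

theorem TJ' (v : V6) : S.T (S.J v) = S.J (S.T v) := by
  have := congrArg (fun X : E6 => X v) S.TJ
  exact this

/-- the eigenspace of `I` for 2 -/
def M : Submodule F V6 := LinearMap.ker (S.I - (2 : F) • (1 : E6))

theorem mem_M {v : V6} : v ∈ S.M ↔ S.I v = (2 : F) • v := by
  rw [M, LinearMap.mem_ker]
  show S.I v - (2 : F) • v = 0 ↔ _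
  rw [sub_eq_zero]

theorem exists_decomp (u : V6) : ∃ u₁ ∈ S.M, ∃ u₂ ∈ S.M, u = u₁ + S.J u₂ := by
  have h5 := five_smul u
  have hJ : S.J (S.J (-(S.I u + (3 : F) • u))) = S.I u + (3 : F) • u := by
    rw [S.JJ', neg_neg]
  refine ⟨-(S.I u + (2 : F) • u), ?_, S.J (-(S.I u + (3 : F) • u)), ?_, ?_⟩
  · rw [mem_M, map_neg, map_add, map_smul, S.II']
    have : -(-u + (2 : F) • S.I u) - (2 : F) • -(S.I u + (2 : F) • u) = (5 : F) • u := by module
    rw [← sub_eq_zero, this, h5]
  · rw [mem_M, S.IJ', map_neg, map_add, map_smul, S.II', map_neg, map_add, map_neg, map_smul, map_neg, map_add,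
      map_smul]
    have : -(-(-S.J u + (3 : F) • S.J (S.I u))) - (2 : F) • -(S.J (S.I u) + (3 : F) • S.J u) =
        (5 : F) • (S.J (S.I u) + S.J u) := by module
    rw [← sub_eq_zero, this, five_smul]
  · rw [hJ]
    module

theorem J_inj {v : V6} (h : S.J v = 0) : v = 0 := by
  have h1 := S.JJ' v
  rw [h, map_zero] at h1
  exact (neg_eq_zero.1 h1.symm)

theorem finrank_M : Module.finrank F S.M ≤ 3 := by
  let f : (S.M × S.M) →ₗ[F] V6 :=
    { toFun := fun p => (p.1 : V6) + S.J p.2
      map_add' := fun p q => by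
        show ((p.1 : V6) + q.1) + S.J ((p.2 : V6) + q.2) = _
        rw [map_add]
        abel
      map_smul' := fun c p => by
        show c • (p.1 : V6) + S.J (c • (p.2 : V6)) = c • ((p.1 : V6) + S.J p.2)
        rw [map_smul, smul_add] }
  have hinj : Function.Injective f := by
    rw [injective_iff_map_eq_zero]
    rintro ⟨⟨u, hu⟩, ⟨v, hv⟩⟩ h
    have h' : u + S.J v = 0 := h
    have hu' := S.mem_M.1 hu
    have hv' := S.mem_M.1 hv
    have h2 : S.I (u + S.J v) = 0 := by rw [h', map_zero]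
    rw [map_add, hu', S.IJ', hv', map_smul] at h2
    have h3 : u = 0 := by
      have : (4 : F) • u = (2 : F) • u + -((2 : F) • S.J v) + (2 : F) • (u + S.J v) := by module
      rw [h2, h', smul_zero, add_zero] at this
      exact (smul_eq_zero.1 this).resolve_left (by decide)
    have h4 : v = 0 := by
      rw [h3, zero_add] at h'
      exact S.J_inj h'
    subst h3 h4
    rfl
  have h1 := LinearMap.finrank_le_finrank_of_injective hinj
  rw [Module.finrank_prod, Module.finrank_fin_fun] at h1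
  omega

/-- an operator commuting with `J` and vanishing on `M` is zero -/
theorem eq_zero_of_M {X : E6} (hJ : X * S.J = S.J * X) (h : ∀ v ∈ S.M, X v = 0) : X = 0 := by
  refine LinearMap.ext fun u => ?_
  obtain ⟨u₁, h1, u₂, h2, rfl⟩ := S.exists_decomp u
  have e : X (S.J u₂) = S.J (X u₂) := congrArg (fun X : E6 => X u₂) hJ
  rw [map_add, h _ h1, e, h _ h2, map_zero, add_zero]
  rfl

theorem map_M {X : E6} (hI : X * S.I = S.I * X) {v : V6} (hv : v ∈ S.M) : X v ∈ S.M := by
  rw [mem_M] at hv ⊢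
  have e : X (S.I v) = S.I (X v) := congrArg (fun X : E6 => X v) hI
  rw [← e, hv, map_smul]

/-- nilpotent operators commuting with `I` and `J` have cube zero -/
theorem cube_eq_zero {X : E6} (hI : X * S.I = S.I * X) (hJ : X * S.J = S.J * X) (h5 : X ^ 5 = 0) : X ^ 3 = 0 := by
  let f : S.M →ₗ[F] S.M := X.restrict (fun v hv => S.map_M hI hv)
  have hf : ∀ (n : ℕ) (v : S.M), ((f ^ n) v : V6) = (X ^ n) v := by
    intro n
    induction n with
    | zero => intro v; rfl
    | succ n ih =>
      intro v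
      rw [pow_succ', pow_succ']
      show (f ((f ^ n) v) : V6) = X ((X ^ n) v)
      rw [← ih]
      rfl
  have h3 := Module.End.ker_pow_eq_ker_pow_finrank_of_le (f := f) (m := 3) S.finrank_M
  have h5' := Module.End.ker_pow_eq_ker_pow_finrank_of_le (f := f) (m := 5) (S.finrank_M.trans (by norm_num))
  have h6 : f ^ 5 = 0 := by
    refine LinearMap.ext fun v => ?_
    apply Subtype.ext
    rw [hf, h5]
    rfl
  apply S.eq_zero_of_M
  · exact (Commute.pow_left (show Commute X S.J from hJ) 3)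
  · intro v hv
    have h7 : (⟨v, hv⟩ : S.M) ∈ LinearMap.ker (f ^ 3) := by
      rw [h3, ← h5', h6]
      exact LinearMap.mem_ker.2 rfl
    rw [← hf 3 ⟨v, hv⟩, LinearMap.mem_ker.1 h7]
    rfl

end Base

/-- the properties of `b` and `b'` -/
structure Uni (S : Base) (X : E6) : Prop where
  iX : ∀ u v, S.om' (X u) (X v) = S.om' u v
  XI : X * S.I = S.I * X
  XJ : X * S.J = S.J * X
  XT : X * S.T * X = S.T
  X5 : X ^ 5 = 1

namespace Uni

variable {S : Base} {X : E6} (h : Uni S X)

include h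

theorem cube : (X - 1) * (X - 1) * (X - 1) = 0 := by
  have h1 := S.cube_eq_zero (X := X - 1) (by rw [sub_mul, mul_sub, h.XI, one_mul, mul_one])
    (by rw [sub_mul, mul_sub, h.XJ, one_mul, mul_one]) (sub_one_pow_five five_eq_zero h.X5)
  rw [pow_succ, pow_two] at h1
  exact h1

theorem T_lg : S.T * lg X = -(lg X * S.T) := M5D.T_lg h.cube S.TT h.XT five_eq_zero

theorem T_lg' (v : V6) : S.T (lg X v) = -lg X (S.T v) := congrArg (fun Y : E6 => Y v) h.T_lg

theorem I_lg : S.I * lg X = lg X * S.I := comm_lg h.XI.symm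
theorem J_lg : S.J * lg X = lg X * S.J := comm_lg h.XJ.symm

theorem I_lg' (v : V6) : S.I (lg X v) = lg X (S.I v) := congrArg (fun Y : E6 => Y v) h.I_lg
theorem J_lg' (v : V6) : S.J (lg X v) = lg X (S.J v) := congrArg (fun Y : E6 => Y v) h.J_lg

theorem lg_cube' (v : V6) : lg X (lg X (lg X v)) = 0 := congrArg (fun Y : E6 => Y v) (lg_cube h.cube)

theorem exp' (v : V6) : X v = v + lg X v + (3 : F) • lg X (lg X v) := by
  have e := congrArg (fun Y : E6 => Y v) (eq_exp h.cube)
  refine e.trans ?_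
  show v + lg X v + (3 : ℕ) • lg X (lg X v) = _
  module

theorem adj_sub (u v : V6) : S.om' ((X - 1) u) v = S.om' u ((S.T * (X - 1) * S.T) v) := by
  have e1 : X * (S.T * X * S.T) = 1 := by
    have : X * (S.T * X * S.T) = X * S.T * X * S.T := by noncomm_ring
    rw [this, h.XT, S.TT]
  have e2 : X ((S.T * X * S.T) v) = v := congrArg (fun Y : E6 => Y v) e1
  have e3 : S.om' (X u) v = S.om' u ((S.T * X * S.T) v) := by
    conv_lhs => rw [← e2]
    exact h.iX _ _
  have e4 : S.T * (X - 1) * S.T = S.T * X * S.T - 1 := by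
    rw [mul_sub, sub_mul, mul_one, S.TT]
  rw [e4]
  show S.om' (X u - u) v = S.om' u ((S.T * X * S.T) v - v)
  rw [map_sub, LinearMap.sub_apply, map_sub, e3]

theorem lg_skew (u v : V6) : S.om' (lg X u) v = -S.om' u (lg X v) := by
  have e1 : lg X u = (X - 1) u - (3 : F) • (X - 1) ((X - 1) u) := by
    show (X - 1) u - (3 : ℕ) • _ = _
    module
  have e2 : S.om' u ((S.T * lg X * S.T) v) = S.om' (lg X u) v := by
    have e4 : (S.T * (X - 1) * S.T) * (S.T * (X - 1) * S.T) = S.T * ((X - 1) * (X - 1)) * S.T := by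
      have : (S.T * (X - 1) * S.T) * (S.T * (X - 1) * S.T) = S.T * ((X - 1) * (S.T * S.T) * (X - 1)) * S.T := by
        simp only [mul_assoc]
      rw [this, S.TT, mul_one]
    have e5 : S.T (lg X (S.T v)) = (S.T * (X - 1) * S.T) v -
        (3 : F) • (S.T * (X - 1) * S.T) ((S.T * (X - 1) * S.T) v) := by
      have e6 : (S.T * (X - 1) * S.T) ((S.T * (X - 1) * S.T) v) = S.T ((X - 1) ((X - 1) (S.T v))) :=
        congrArg (fun Y : E6 => Y v) e4
      rw [e6]
      show S.T ((X - 1) (S.T v) - (3 : ℕ) • (X - 1) ((X - 1) (S.T v))) = S.T ((X - 1) (S.T v)) - _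
      rw [map_sub, map_nsmul]
      module
    show S.om' u (S.T (lg X (S.T v))) = _
    rw [e5, e1, map_sub, map_sub, LinearMap.sub_apply, map_smul, map_smul, LinearMap.smul_apply, h.adj_sub,
      h.adj_sub, h.adj_sub]
  have e7 : (S.T * lg X * S.T) v = -(lg X v) := congrArg (fun Y : E6 => Y v) (conj_lg h.cube S.TT h.XT five_eq_zero)
  rw [← e2, e7, map_neg]

end Uni

/-! ### the form `q v w = om' v (J w)` on `M` -/

namespace Base

variable (S : Base)

theorem q_symm (v w : V6) : S.om' v (S.J w) = S.om' w (S.J v) := by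
  rw [← S.iJ v, S.JJ', map_neg, S.skew (S.J v) w, neg_neg]

theorem om_M {u v : V6} (hu : u ∈ S.M) (hv : v ∈ S.M) : S.om' u v = 0 := by
  have h := S.iI u v
  rw [S.mem_M.1 hu, S.mem_M.1 hv, map_smul, map_smul, LinearMap.smul_apply] at h
  have : ∀ x : F, (2 : F) • (2 : F) • x = x → x = 0 := by decide
  exact this _ h

theorem q_nd {v : V6} (hv : v ∈ S.M) (h : ∀ w ∈ S.M, S.om' v (S.J w) = 0) : v = 0 := by
  apply S.nd
  intro u
  obtain ⟨u₁, h1, u₂, h2, rfl⟩ := S.exists_decomp u
  rw [map_add, S.om_M hv h1, h _ h2, add_zero]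

theorem exists_q {v : V6} (hv : v ∈ S.M) (h0 : v ≠ 0) : ∃ w ∈ S.M, S.om' v (S.J w) ≠ 0 := by
  by_contra h
  push Not at h
  exact h0 (S.q_nd hv h)

end Base

namespace Uni

variable {S : Base} {X : E6} (h : Uni S X)

include h

theorem q_skew (v w : V6) : S.om' (lg X v) (S.J w) = -S.om' v (S.J (lg X w)) := by
  rw [h.lg_skew, h.J_lg']

theorem lg_M {v : V6} (hv : v ∈ S.M) : lg X v ∈ S.M := S.map_M h.I_lg.symm hv

theorem q_self (v : V6) : S.om' (lg X v) (S.J v) = 0 := by
  have h1 := h.q_skew v v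
  rw [S.q_symm v (lg X v)] at h1
  have : ∀ x : F, x = -x → x = 0 := by decide
  exact this _ h1

/-- the square of the logarithm is not zero on `M` -/
theorem exists_sq_ne (hX : X ≠ 1) : ∃ v ∈ S.M, lg X (lg X v) ≠ 0 := by
  by_contra hc
  push Not at hc
  obtain ⟨v, hv, hv0⟩ : ∃ v ∈ S.M, lg X v ≠ 0 := by
    by_contra hc'
    push Not at hc'
    have h1 : lg X = 0 := S.eq_zero_of_M h.J_lg.symm hc'
    apply hX
    have h2 := eq_exp h.cube
    rw [h1] at h2
    rw [h2]
    simp
  obtain ⟨w, hw, hw0⟩ := S.exists_q (h.lg_M hv) hv0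
  have hw0' : S.om' (lg X w) (S.J v) ≠ 0 := by
    rw [h.q_skew, S.q_symm]
    exact neg_ne_zero.2 hw0
  have hli : LinearIndependent F (![⟨v, hv⟩, ⟨w, hw⟩, ⟨lg X v, h.lg_M hv⟩, ⟨lg X w, h.lg_M hw⟩] : Fin 4 → S.M) := by
    rw [Fintype.linearIndependent_iff]
    intro g hg
    rw [Fin.sum_univ_four] at hg
    have hg' : g 0 • v + g 1 • w + g 2 • lg X v + g 3 • lg X w = 0 := congrArg Subtype.val hg
    have h1 : g 0 • lg X v + g 1 • lg X w = 0 := by
      have : (lg X) (g 0 • v + g 1 • w + g 2 • lg X v + g 3 • lg X w) = lg X 0 := congrArg (lg X : V6 →ₗ[F] V6) hg'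
      rw [map_add, map_add, map_add, map_smul, map_smul, map_smul, map_smul, hc v hv, hc w hw, smul_zero, smul_zero,
        add_zero, add_zero, map_zero] at this
      exact this
    have e : ∀ a b : F, a • lg X v + b • lg X w = 0 → a = 0 ∧ b = 0 := by
      intro a b hab
      have k1 : a * S.om' (lg X v) (S.J w) = 0 := by
        have := congrArg (fun x => S.om' x (S.J w)) hab
        simp only [map_add, LinearMap.add_apply, map_smul, LinearMap.smul_apply, h.q_self, smul_eq_mul, mul_zero,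
          add_zero, map_zero, LinearMap.zero_apply] at this
        exact this
      have k2 : b * S.om' (lg X w) (S.J v) = 0 := by
        have := congrArg (fun x => S.om' x (S.J v)) hab
        simp only [map_add, LinearMap.add_apply, map_smul, LinearMap.smul_apply, h.q_self, smul_eq_mul, mul_zero,
          zero_add, map_zero, LinearMap.zero_apply] at this
        exact this
      exact ⟨(mul_eq_zero.1 k1).resolve_right hw0, (mul_eq_zero.1 k2).resolve_right hw0'⟩
    obtain ⟨g0, g1⟩ := e _ _ h1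
    rw [g0, g1, zero_smul, zero_smul, zero_add, zero_add] at hg'
    obtain ⟨g2, g3⟩ := e _ _ hg'
    intro i
    fin_cases i
    · exact g0
    · exact g1
    · exact g2
    · exact g3
  have h1 := hli.fintype_card_le_finrank
  have h2 := S.finrank_M
  rw [Fintype.card_fin] at h1
  omega

/-- the form `q(v, N² w)` is symmetric -/
theorem s_symm (v w : V6) : S.om' v (S.J (lg X (lg X w))) = S.om' w (S.J (lg X (lg X v))) := by
  have h1 := h.q_skew v (lg X w)
  have h2 := h.q_skew (lg X v) w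
  rw [S.q_symm w (lg X (lg X v)), h2]
  linear_combination h1

theorem exists_vec (hX : X ≠ 1) : ∃ (m : V6) (ε κ : F), (ε = 1 ∨ ε = -1) ∧ κ ≠ 0 ∧ m ∈ S.M ∧ S.T m = ε • m ∧
    S.om' m (S.J (lg X (lg X m))) = κ ∧ S.om' m (S.J m) = 0 := by
  obtain ⟨v, hv, hv0⟩ := h.exists_sq_ne hX
  obtain ⟨w, hw, hw0⟩ := S.exists_q (h.lg_M (h.lg_M hv)) hv0
  rw [S.q_symm] at hw0
  -- a vector with `s(y,y) ≠ 0`
  obtain ⟨y, hy, hy0⟩ : ∃ y ∈ S.M, S.om' y (S.J (lg X (lg X y))) ≠ 0 := by
    by_contra hc
    push Not at hc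
    have h1 := hc _ (S.M.add_mem hv hw)
    simp only [map_add, LinearMap.add_apply, hc v hv, hc w hw] at h1
    rw [h.s_symm v w] at h1
    apply hw0
    have : ∀ x : F, 0 + x + (x + 0) = 0 → x = 0 := by decide
    apply this
    linear_combination h1
  -- an eigenvector of `T`
  have hTM : S.T y ∈ S.M := S.map_M S.TI hy
  obtain ⟨y', ε, hε, hy', hT, hs⟩ : ∃ (y' : V6) (ε : F), (ε = 1 ∨ ε = -1) ∧ y' ∈ S.M ∧ S.T y' = ε • y' ∧
      S.om' y' (S.J (lg X (lg X y'))) ≠ 0 := by
    by_contra hc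
    push Not at hc
    have hp : S.T (y + S.T y) = (1 : F) • (y + S.T y) := by
      rw [map_add, S.TT', one_smul, add_comm]
    have hm : S.T (y - S.T y) = (-1 : F) • (y - S.T y) := by
      rw [map_sub, S.TT']
      module
    have h1 := hc _ 1 (Or.inl rfl) (S.M.add_mem hy hTM) hp
    have h2 := hc _ (-1) (Or.inr rfl) (S.M.sub_mem hy hTM) hm
    have h3 : S.om' (S.T y) (S.J (lg X (lg X (S.T y)))) = S.om' y (S.J (lg X (lg X y))) := by
      have e := S.iT y (S.J (lg X (lg X y)))
      rw [S.TJ', h.T_lg', h.T_lg'] at e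
      simp only [map_neg, neg_neg] at e
      exact e
    simp only [map_add, map_sub, LinearMap.add_apply, LinearMap.sub_apply, h3] at h1 h2
    apply hy0
    have : ∀ x : F, 4 * x = 0 → x = 0 := by decide
    apply this
    linear_combination h1 + h2
  set κ := S.om' y' (S.J (lg X (lg X y'))) with hκ
  set β : F := 2 * (S.om' y' (S.J y')) * κ⁻¹ with hβ
  have hN4 : lg X (lg X (lg X (lg X y'))) = 0 := h.lg_cube' _
  have hN3 : lg X (lg X (lg X y')) = 0 := h.lg_cube' _
  refine ⟨y' + β • lg X (lg X y'), ε, κ, hε, hs, S.M.add_mem hy' (S.M.smul_mem _ (h.lg_M (h.lg_M hy'))), ?_, ?_, ?_⟩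
  · rw [map_add, map_smul, hT, h.T_lg', h.T_lg', map_neg, neg_neg, hT, map_smul, map_smul]
    module
  · have e1 : lg X (lg X (y' + β • lg X (lg X y'))) = lg X (lg X y') := by
      simp only [map_add, map_smul, hN3, map_zero, smul_zero, add_zero]
    rw [e1, map_add, LinearMap.add_apply, ← hκ, map_smul, LinearMap.smul_apply, h.q_skew, hN3]
    simp
  · have e1 : S.om' (lg X (lg X y')) (S.J (lg X (lg X y'))) = 0 := by
      rw [h.q_skew, hN3]
      simp
    have e2 : S.om' (lg X (lg X y')) (S.J y') = κ := by rw [S.q_symm]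
    simp only [map_add, map_smul, LinearMap.add_apply, LinearMap.smul_apply, e1, e2, ← hκ, smul_eq_mul]
    have h5 : (5 : F) = 0 := by decide
    have hk : κ⁻¹ * κ = 1 := inv_mul_cancel₀ hs
    rw [hβ]
    linear_combination 4 * (S.om' y' (S.J y')) * hk + (S.om' y' (S.J y')) * h5

end Uni

end Cfsg.Agent.H255.M5D
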