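import Mathlib
import Cfsg.Agent.H255.M5D.Lin
import Cfsg.Agent.H777.M5.MXDef

/-!
# Coordinates (helper255)
-/

set_option autoImplicit false

namespace Cfsg.Agent.H255.M5D

open Cfsg.Agent.H777.M5 Matrix

attribute [-instance] AddSubgroupClass.instZModModule

/-- the linear map with the six given images of the basis vectors -/
def six (m0 m1 m2 m3 m4 m5 : V6) : V6 →ₗ[F] V6 where
  toFun a := a 0 • m0 + a 1 • m1 + a 2 • m2 + a 3 • m3 + a 4 • m4 + a 5 • m5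
  map_add' a b := by
    simp only [Pi.add_apply]
    module
  map_smul' c a := by
    simp only [Pi.smul_apply, smul_eq_mul, RingHom.id_apply]
    module

theorem six_apply (m0 m1 m2 m3 m4 m5 a : V6) :
    six m0 m1 m2 m3 m4 m5 a = a 0 • m0 + a 1 • m1 + a 2 • m2 + a 3 • m3 + a 4 • m4 + a 5 • m5 := rfl

theorem eq_zero_of_om {u : V6} (h : ∀ v, om u v = 0) : u = 0 := by
  funext i
  have e0 := h (Pi.single 5 1)
  have e1 := h (Pi.single 4 1)
  have e2 := h (Pi.single 3 1)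
  have e3 := h (Pi.single 2 1)
  have e4 := h (Pi.single 1 1)
  have e5 := h (Pi.single 0 1)
  simp [om] at e0 e1 e2 e3 e4 e5
  fin_cases i
  · exact e0
  · exact e1
  · exact e2
  · exact e3
  · exact e4
  · exact e5

theorem D6_mulVec (u : V6) : D6 *ᵥ u = ![2 * u 0, 2 * u 1, 2 * u 2, 3 * u 3, 3 * u 4, 3 * u 5] := by
  rw [D6_eq]
  funext i
  rw [Matrix.mulVec_diagonal]
  fin_cases i <;> rfl

theorem t6_mulVec (ε : F) (u : V6) : (ε • t6) *ᵥ u = ![ε * u 0, -(ε * u 1), ε * u 2, ε * u 3, -(ε * u 4), ε * u 5] := by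
  rw [t6, Matrix.smul_mulVec]
  funext i
  rw [Pi.smul_apply, Matrix.mulVec_diagonal]
  fin_cases i <;> simp

theorem J6_mulVec (u : V6) : J6 *ᵥ u = ![4 * u 3, 4 * u 4, 4 * u 5, u 0, u 1, u 2] := by
  funext i
  fin_cases i <;> simp [J6, K, J2, Matrix.mulVec, dotProduct, Fin.sum_univ_six]

theorem n6_mulVec (u : V6) : n6 *ᵥ u = ![u 1, u 2, 0, u 4, u 5, 0] := by
  funext i
  fin_cases i <;> simp [n6, Matrix.mulVec, dotProduct, Fin.sum_univ_six]

/-- **the coordinates** -/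
theorem exists_L {S : Base} {X : E6} (h : Uni S X) (hX : X ≠ 1) : ∃ (L : V6 ≃ₗ[F] V6) (ε κ : F),
    (ε = 1 ∨ ε = -1) ∧ κ ≠ 0 ∧ (∀ u v, S.om' (L u) (L v) = κ * om u v) ∧ (∀ u, S.I (L u) = L (D6 *ᵥ u)) ∧
    (∀ u, S.J (L u) = L (J6 *ᵥ u)) ∧ (∀ u, lg X (L u) = L (n6 *ᵥ u)) ∧ (∀ u, S.T (L u) = L ((ε • t6) *ᵥ u)) := by
  obtain ⟨m, ε, κ, hε, hκ, hm, hT, hq, hq0⟩ := h.exists_vec hX
  have hN3 : lg X (lg X (lg X m)) = 0 := h.lg_cube' _
  have hm1 : lg X m ∈ S.M := h.lg_M hm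
  have hm0 : lg X (lg X m) ∈ S.M := h.lg_M hm1
  have G00 : S.om' (lg X (lg X m)) (S.J (lg X (lg X m))) = 0 := by rw [h.q_skew, hN3]; simp
  have G01 : S.om' (lg X (lg X m)) (S.J (lg X m)) = 0 := h.q_self _
  have G02 : S.om' (lg X (lg X m)) (S.J m) = κ := by rw [S.q_symm, hq]
  have G10 : S.om' (lg X m) (S.J (lg X (lg X m))) = 0 := by rw [S.q_symm, G01]
  have G11 : S.om' (lg X m) (S.J (lg X m)) = -κ := by rw [h.q_skew, hq]
  have G12 : S.om' (lg X m) (S.J m) = 0 := h.q_self _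
  have G21 : S.om' m (S.J (lg X m)) = 0 := by rw [S.q_symm, G12]
  have O : ∀ u v, u ∈ S.M → v ∈ S.M → S.om' u v = 0 := fun u v hu hv => S.om_M hu hv
  have N : ∀ u v, S.om' (S.J u) v = -S.om' v (S.J u) := fun u v => S.skew _ _
  let L0 := six (lg X (lg X m)) (lg X m) m (S.J (lg X (lg X m))) (S.J (lg X m)) (S.J m)
  have hL0 : ∀ a : V6, L0 a = a 0 • lg X (lg X m) + a 1 • lg X m + a 2 • m + a 3 • S.J (lg X (lg X m)) +
      a 4 • S.J (lg X m) + a 5 • S.J m := fun a => rfl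
  have hom : ∀ u v, S.om' (L0 u) (L0 v) = κ * om u v := by
    intro u v
    rw [hL0, hL0]
    simp only [map_add, map_smul, LinearMap.add_apply, LinearMap.smul_apply, S.iJ, O _ _ hm hm, O _ _ hm hm1,
      O _ _ hm hm0, O _ _ hm1 hm, O _ _ hm1 hm1, O _ _ hm1 hm0, O _ _ hm0 hm, O _ _ hm0 hm1, O _ _ hm0 hm0,
      N _ m, N _ (lg X m), N _ (lg X (lg X m)), G00, G01, G02, G10, G11, G12, G21, hq, hq0, smul_eq_mul, om]
    ring
  have hinj : Function.Injective L0 := by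
    rw [injective_iff_map_eq_zero]
    intro u hu
    apply eq_zero_of_om
    intro v
    have := hom u v
    rw [hu, map_zero, LinearMap.zero_apply] at this
    exact (mul_eq_zero.1 this.symm).resolve_left hκ
  have hI : ∀ v ∈ S.M, S.I v = (2 : F) • v := fun v hv => S.mem_M.1 hv
  have hTN : S.T (lg X m) = -(ε • lg X m) := by rw [h.T_lg', hT, map_smul]
  have hTN2 : S.T (lg X (lg X m)) = ε • lg X (lg X m) := by rw [h.T_lg', hTN, map_neg, neg_neg, map_smul]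
  have h5 : ∀ v : V6, (5 : F) • v = 0 := five_smul
  refine ⟨LinearEquiv.ofInjectiveEndo L0 hinj, ε, κ, hε, hκ, hom, ?_, ?_, ?_, ?_⟩
  · intro u
    show S.I (L0 u) = L0 (D6 *ᵥ u)
    rw [D6_mulVec, hL0, hL0]
    simp only [map_add, map_smul, S.IJ', hI _ hm, hI _ hm1, hI _ hm0]
    simp
    have c : (3 : F) = -2 := by decide
    rw [c]
    module
  · intro u
    show S.J (L0 u) = L0 (J6 *ᵥ u)
    rw [J6_mulVec, hL0, hL0]
    simp only [map_add, map_smul, S.JJ']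
    simp
    have c : (4 : F) = -1 := by decide
    rw [c]
    module
  · intro u
    show lg X (L0 u) = L0 (n6 *ᵥ u)
    rw [n6_mulVec, hL0, hL0]
    simp only [map_add, map_smul, ← h.J_lg', hN3, map_zero]
    simp
  · intro u
    show S.T (L0 u) = L0 ((ε • t6) *ᵥ u)
    rw [t6_mulVec, hL0, hL0]
    simp only [map_add, map_smul, S.TJ', hT, hTN, hTN2, map_neg]
    simp
    module

/-- the matrix of an operator in the coordinates `L` -/
noncomputable def Ph (L : V6 ≃ₗ[F] V6) : E6 →+* M6 where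
  toFun X := LinearMap.toMatrix' ((L.symm : V6 →ₗ[F] V6) ∘ₗ X ∘ₗ (L : V6 →ₗ[F] V6))
  map_one' := by
    have : (L.symm : V6 →ₗ[F] V6) ∘ₗ (1 : E6) ∘ₗ (L : V6 →ₗ[F] V6) = LinearMap.id := by
      refine LinearMap.ext fun v => ?_
      exact L.symm_apply_apply v
    rw [this, LinearMap.toMatrix'_id]
  map_mul' X Y := by
    rw [← LinearMap.toMatrix'_comp]
    congr 1
    refine LinearMap.ext fun v => ?_
    show L.symm (X (Y (L v))) = L.symm (X (L (L.symm (Y (L v)))))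
    rw [L.apply_symm_apply]
  map_zero' := by
    have : (L.symm : V6 →ₗ[F] V6) ∘ₗ (0 : E6) ∘ₗ (L : V6 →ₗ[F] V6) = 0 := by
      refine LinearMap.ext fun v => ?_
      exact map_zero L.symm
    rw [this, map_zero]
  map_add' X Y := by
    rw [← map_add]
    congr 1
    refine LinearMap.ext fun v => ?_
    exact map_add L.symm _ _

theorem Ph_apply (L : V6 ≃ₗ[F] V6) (X : E6) (u : V6) : X (L u) = L (Ph L X *ᵥ u) := by
  show X (L u) = L (LinearMap.toMatrix' ((L.symm : V6 →ₗ[F] V6) ∘ₗ X ∘ₗ (L : V6 →ₗ[F] V6)) *ᵥ u)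
  rw [← Matrix.toLin'_apply, Matrix.toLin'_toMatrix']
  exact (L.apply_symm_apply _).symm

theorem Ph_eq {L : V6 ≃ₗ[F] V6} {X : E6} {M : M6} (h : ∀ u, X (L u) = L (M *ᵥ u)) : Ph L X = M := by
  apply Matrix.ext_of_mulVec_single
  intro i
  apply L.injective
  rw [← Ph_apply, h]

theorem mul_one_or {X : E6} {L : V6 ≃ₗ[F] V6} {M : M6} (hX : X = 1 ∨ X = -1) (h : Ph L X = M) : M = 1 ∨ M = -1 := by
  rcases hX with rfl | rfl
  · left
    rw [← h, map_one]
  · right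
    rw [← h, map_neg, map_one]

theorem Ph_inj {L : V6 ≃ₗ[F] V6} {X Y : E6} (h : Ph L X = Ph L Y) : X = Y := by
  refine LinearMap.ext fun v => ?_
  rw [← L.apply_symm_apply v, Ph_apply, Ph_apply, h]

theorem D6_iM : D6 = iM := by decide +kernel

theorem J6_jM : J6 = jM := by decide +kernel

theorem B6_bpM : B6 = bpM := by decide +kernel

/-- **the normal form** -/
theorem main_lin (S : Base) {A B B' : E6} (hB : Uni S B) (hB' : Uni S B') (hB1 : B ≠ 1) (hAB : A * B = B * A)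
    (hAT : A * S.T = S.T * A) (hAI : A * S.I * A = S.I)
    (hA5 : A * A * (A * A) * A = 1) (hJA : (S.J * A) * (S.J * A) * (S.J * A) = 1)
    (hIJA : (S.I * S.J * A) * (S.I * S.J * A) * ((S.I * S.J * A) * (S.I * S.J * A)) * (S.I * S.J * A) = 1)
    (hBB3 : (B * B') * (B * B') * (B * B') = 1 ∨ (B * B') * (B * B') * (B * B') = -1)
    (hBB2 : (B * (B' * B')) * (B * (B' * B')) = 1 ∨ (B * (B' * B')) * (B * (B' * B')) = -1)
    (hAB15 : ∀ m m3 m5 : E6, m = A * B' → m3 = m * m * m → m5 = m3 * m * m → m5 * m5 * m5 = 1 ∨ m5 * m5 * m5 = -1)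
    (hne : A * B' ≠ B' * A) : ∃ (L : V6 ≃ₗ[F] V6) (κ : F), κ ≠ 0 ∧ (∀ u v, S.om' (L u) (L v) = κ * om u v) ∧
      (∀ u, A (L u) = L (aM *ᵥ u)) ∧ (∀ u, B (L u) = L (bM *ᵥ u)) ∧ (∀ u, S.I (L u) = L (iM *ᵥ u)) ∧
      (∀ u, S.J (L u) = L (jM *ᵥ u)) ∧ (∀ u, B' (L u) = L (bpM *ᵥ u)) := by
  obtain ⟨L, ε, κ, hε, hκ, hom, hI, hJ, hN, hT⟩ := exists_L hB hB1
  have eI : Ph L S.I = D6 := Ph_eq hI
  have eJ : Ph L S.J = J6 := Ph_eq hJ
  have eN : Ph L (lg B) = n6 := Ph_eq hN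
  have eT : Ph L S.T = ε • t6 := Ph_eq hT
  have hε0 : ε ≠ 0 := by rcases hε with rfl | rfl <;> decide
  have eB : Ph L B = bM := by
    rw [eq_exp hB.cube, map_add, map_add, map_one, map_nsmul, map_mul, eN, bM_eq]
  -- the matrix of `A`
  have a1 : Ph L A * n6 = n6 * Ph L A := by
    rw [← eN, ← map_mul, ← map_mul, comm_lg hAB]
  have a2 : Ph L A * t6 = t6 * Ph L A := by
    have h1 : Ph L A * (ε • t6) = (ε • t6) * Ph L A := by rw [← eT, ← map_mul, ← map_mul, hAT]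
    rw [Matrix.mul_smul, Matrix.smul_mul] at h1
    exact smul_right_injective _ hε0 h1
  obtain ⟨P, hP⟩ := exists_K a1 a2
  obtain ⟨d, hd⟩ := eq_X0 (P := P) (by rw [← hP, ← eI, ← map_mul, ← map_mul, hAI])
    (by rw [← hP, ← eJ, ← map_mul, ← map_mul, ← map_mul, hJA, map_one])
    (by
      rw [← hP, ← eJ, ← eI, ← map_mul, ← map_mul, ← map_mul, ← map_mul, ← map_mul, hIJA, map_one])
    (by rw [← hP, ← map_mul, ← map_mul, ← map_mul, hA5, map_one])
  subst hd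
  -- the matrix of `B'`
  have z1 : Ph L (lg B') * t6 = -(t6 * Ph L (lg B')) := by
    have h1 : Ph L (lg B') * (ε • t6) = -((ε • t6) * Ph L (lg B')) := by
      rw [← eT, ← map_mul, ← map_mul, hB'.T_lg, map_neg, neg_neg]
    rw [Matrix.mul_smul, Matrix.smul_mul, ← smul_neg] at h1
    exact smul_right_injective _ hε0 h1
  have z2 : Ph L (lg B') * D6 = D6 * Ph L (lg B') := by rw [← eI, ← map_mul, ← map_mul, hB'.I_lg]
  have z3 : Ph L (lg B') * J6 = J6 * Ph L (lg B') := by rw [← eJ, ← map_mul, ← map_mul, hB'.J_lg]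
  have z4 : ∀ u v, om (Ph L (lg B') *ᵥ u) v = -om u (Ph L (lg B') *ᵥ v) := by
    intro u v
    apply mul_left_cancel₀ hκ
    rw [← hom, ← Ph_apply, hB'.lg_skew, Ph_apply, hom]
    ring
  obtain ⟨l, n, hz⟩ := exists_Zm z1 z2 z3 z4
  have eB' : Ph L B' = 1 + Zm l n + 3 • (Zm l n * Zm l n) := by
    conv_lhs => rw [eq_exp hB'.cube]
    rw [map_add, map_add, map_one, map_nsmul, map_mul, hz]
  have c1 := mul_one_or hBB3 (L := L) rfl
  have c2 := mul_one_or hBB2 (L := L) rfl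
  simp only [map_mul, eB, eB'] at c1 c2
  have e6 := fin4 l n c1 c2
  rw [e6] at eB'
  have c3 := mul_one_or (hAB15 _ _ _ rfl rfl rfl) (L := L) rfl
  simp only [map_mul, hP, eB'] at c3
  have c4 : K (X0, !![d, 3 * d; 3 * d, d]) * B6 ≠ B6 * K (X0, !![d, 3 * d; 3 * d, d]) := by
    intro h
    apply hne
    apply Ph_inj (L := L)
    rw [map_mul, map_mul, hP, eB', h]
  have eA := fin3 d c3 c4
  refine ⟨L, κ, hκ, hom, ?_, ?_, ?_, ?_, ?_⟩
  · intro u
    rw [Ph_apply, hP, eA]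
  · intro u
    rw [Ph_apply, eB]
  · intro u
    rw [hI, D6_iM]
  · intro u
    rw [hJ, J6_jM]
  · intro u
    rw [Ph_apply, eB', B6_bpM]

end Cfsg.Agent.H255.M5D
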