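import Mathlib
import Cfsg.Agent.H255.M5D.Mat

/-!
# The case `i² = 1` is impossible (helper255)
-/

set_option autoImplicit false

namespace Cfsg.Agent.H255.M5D.Plus

open Cfsg.Agent.H777.M5 Matrix

attribute [-instance] AddSubgroupClass.instZModModule

local instance : Fact (Nat.Prime 5) := ⟨by norm_num⟩

abbrev E6 := Module.End F V6

structure PDat where
  om' : V6 →ₗ[F] V6 →ₗ[F] F
  alt : ∀ v, om' v v = 0
  nd : ∀ u, (∀ v, om' u v = 0) → u = 0
  I : E6
  J : E6
  T : E6
  C : E6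
  B : E6
  iI : ∀ u v, om' (I u) (I v) = om' u v
  iJ : ∀ u v, om' (J u) (J v) = om' u v
  iT : ∀ u v, om' (T u) (T v) = om' u v
  II : ∀ v, I (I v) = v
  JJ : ∀ v, J (J v) = v
  IJ : ∀ v, I (J v) = J (I v)
  TI : ∀ v, T (I v) = I (T v)
  TJ : ∀ v, T (J v) = J (T v)
  TT : ∀ v, T (T v) = v
  CI : ∀ v, C (I v) = J (C v)
  CJ : ∀ v, C (J v) = I (J (C v))
  C0 : ∀ v, C v = 0 → v = 0
  BI : ∀ v, B (I v) = I (B v)
  BJ : ∀ v, B (J v) = J (B v)
  BC : ∀ v, B (C v) = C (B v)
  BT : ∀ v, B (T (B v)) = T v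
  B5 : ∀ v, B (B (B (B (B v)))) = v

namespace PDat

variable (S : PDat)

/-- the joint eigenspaces -/
def U (a b : F) : Submodule F V6 :=
  LinearMap.ker (S.I - a • (1 : E6)) ⊓ LinearMap.ker (S.J - b • (1 : E6))

theorem mem_U {a b : F} {v : V6} : v ∈ S.U a b ↔ S.I v = a • v ∧ S.J v = b • v := by
  rw [U, Submodule.mem_inf, LinearMap.mem_ker, LinearMap.mem_ker]
  show S.I v - a • v = 0 ∧ S.J v - b • v = 0 ↔ _
  rw [sub_eq_zero, sub_eq_zero]

theorem C_mem {a b : F} (ha : a * a = 1) {v : V6} (hv : v ∈ S.U a b) : S.C v ∈ S.U (a * b) a := by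
  rw [mem_U] at hv ⊢
  have h1 : S.J (S.C v) = a • S.C v := by rw [← S.CI, hv.1, map_smul]
  refine ⟨?_, h1⟩
  have h2 : S.I (S.J (S.C v)) = b • S.C v := by rw [← S.CJ, hv.2, map_smul]
  rw [h1, map_smul] at h2
  have h3 : S.I (S.C v) = a • (a • S.I (S.C v)) := by rw [smul_smul, ha, one_smul]
  rw [h3, h2, smul_smul]

theorem comp_mem (a b : F) (ha : a * a = 1) (hb : b * b = 1) (v : V6) :
    v + a • S.I v + b • S.J v + (a * b) • S.I (S.J v) ∈ S.U a b := by
  rw [mem_U]
  constructor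
  · simp only [map_add, map_smul, S.II]
    have e1 : a • (v + a • S.I v + b • S.J v + (a * b) • S.I (S.J v)) =
        a • v + (a * a) • S.I v + (a * b) • S.J v + (a * a * b) • S.I (S.J v) := by module
    rw [e1, ha]
    module
  · simp only [map_add, map_smul, S.JJ, S.IJ]
    have e1 : b • (v + a • S.I v + b • S.J v + (a * b) • S.J (S.I v)) =
        b • v + (a * b) • S.I v + (b * b) • S.J v + (a * (b * b)) • S.J (S.I v) := by module
    rw [e1, hb]
    module

theorem exists_w {v : V6} (hv : v ∈ S.U 1 (-1)) (h0 : v ≠ 0) : ∃ w ∈ S.U 1 (-1), S.om' v w ≠ 0 := by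
  obtain ⟨y, hy⟩ : ∃ y, S.om' v y ≠ 0 := by
    by_contra h
    push Not at h
    exact h0 (S.nd v h)
  refine ⟨_, S.comp_mem 1 (-1) (by decide) (by decide) y, ?_⟩
  have hv' := S.mem_U.1 hv
  have e1 : ∀ y, S.om' v (S.I y) = S.om' v y := by
    intro y
    have := S.iI v y
    rwa [hv'.1, one_smul] at this
  have e2 : ∀ y, S.om' v (S.J y) = -S.om' v y := by
    intro y
    have := S.iJ v y
    rw [hv'.2, map_smul, LinearMap.smul_apply, smul_eq_mul] at this
    linear_combination -this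
  simp only [map_add, map_smul, e1, e2, smul_eq_mul]
  intro h
  apply hy
  have : ∀ x : F, 4 * x = 0 → x = 0 := by decide
  apply this
  linear_combination h

theorem exists_w' {v : V6} (hv : v ∈ S.U 1 (-1)) (h0 : v ≠ 0) {s : F} (hs : s * s = 1) (hT : S.T v = s • v) :
    ∃ w ∈ S.U 1 (-1), S.T w = s • w ∧ S.om' v w ≠ 0 := by
  obtain ⟨w, hw, hw0⟩ := S.exists_w hv h0
  have hw' := S.mem_U.1 hw
  have hTw : S.T w ∈ S.U 1 (-1) := by
    rw [mem_U, ← S.TI, ← S.TJ, hw'.1, hw'.2, map_smul, map_smul]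
    exact ⟨rfl, rfl⟩
  refine ⟨w + s • S.T w, (S.U 1 (-1)).add_mem hw ((S.U 1 (-1)).smul_mem _ hTw), ?_, ?_⟩
  · rw [map_add, map_smul, S.TT]
    have : s • (w + s • S.T w) = s • w + (s * s) • S.T w := by module
    rw [this, hs]
    module
  · have e1 : S.om' v (S.T w) = s * S.om' v w := by
      have := S.iT v w
      rw [hT, map_smul, LinearMap.smul_apply, smul_eq_mul] at this
      linear_combination (-S.om' v (S.T w)) * hs + s * this
    rw [map_add, map_smul, e1, smul_eq_mul]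
    intro h
    apply hw0
    have : ∀ x : F, 2 * x = 0 → x = 0 := by decide
    apply this
    linear_combination h - (S.om' v w) * hs

theorem finrank_le : Module.finrank F (S.U 1 1) + 3 * Module.finrank F (S.U 1 (-1)) ≤ 6 := by
  let f : (S.U 1 1 × S.U 1 (-1) × S.U 1 (-1) × S.U 1 (-1)) →ₗ[F] V6 :=
    { toFun := fun p => (p.1 : V6) + (p.2.1 : V6) + S.C p.2.2.1 + S.C (S.C p.2.2.2)
      map_add' := fun p q => by
        show ((p.1 : V6) + q.1) + ((p.2.1 : V6) + q.2.1) + S.C ((p.2.2.1 : V6) + q.2.2.1) +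
          S.C (S.C ((p.2.2.2 : V6) + q.2.2.2)) = _
        rw [map_add, map_add, map_add]
        abel
      map_smul' := fun c p => by
        show c • (p.1 : V6) + c • (p.2.1 : V6) + S.C (c • (p.2.2.1 : V6)) + S.C (S.C (c • (p.2.2.2 : V6))) =
          c • ((p.1 : V6) + (p.2.1 : V6) + S.C p.2.2.1 + S.C (S.C p.2.2.2))
        rw [map_smul, map_smul, map_smul]
        module }
  have hinj : Function.Injective f := by
    rw [injective_iff_map_eq_zero]
    rintro ⟨⟨p0, h0⟩, ⟨p1, h1⟩, ⟨p2, h2⟩, ⟨p3, h3⟩⟩ h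
    have h' : p0 + p1 + S.C p2 + S.C (S.C p3) = 0 := h
    have k2 := S.mem_U.1 (S.C_mem (by decide) h2)
    have k3 := S.mem_U.1 (S.C_mem (by decide) (S.C_mem (by decide) h3))
    have k0 := S.mem_U.1 h0
    have k1 := S.mem_U.1 h1
    have hI : S.I (p0 + p1 + S.C p2 + S.C (S.C p3)) = 0 := by rw [h', map_zero]
    have hJ : S.J (p0 + p1 + S.C p2 + S.C (S.C p3)) = 0 := by rw [h', map_zero]
    have hIJ : S.I (S.J (p0 + p1 + S.C p2 + S.C (S.C p3))) = 0 := by rw [h', map_zero, map_zero]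
    simp only [map_add, map_smul, k0.1, k0.2, k1.1, k1.2, k2.1, k2.2, k3.1, k3.2] at hI hJ hIJ
    have four : ∀ v : V6, (4 : F) • v = 0 → v = 0 := fun v hv => (smul_eq_zero.1 hv).resolve_left (by decide)
    have e0 : p0 = 0 := by
      apply four
      have : (4 : F) • p0 = (p0 + p1 + S.C p2 + S.C (S.C p3)) +
        ((1 : F) • p0 + (1 : F) • p1 + ((1 : F) * -1) • S.C p2 + ((1 : F) * -1 * 1) • S.C (S.C p3)) +
        ((1 : F) • p0 + (-1 : F) • p1 + (1 : F) • S.C p2 + ((1 : F) * -1) • S.C (S.C p3)) +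
        ((1 : F) • (1 : F) • p0 + (-1 : F) • (1 : F) • p1 + (1 : F) • ((1 : F) * -1) • S.C p2 +
          ((1 : F) * -1) • ((1 : F) * -1 * 1) • S.C (S.C p3)) := by module
      rw [this, h', hI, hJ, hIJ]
      simp
    have e1 : p1 = 0 := by
      apply four
      have : (4 : F) • p1 = (p0 + p1 + S.C p2 + S.C (S.C p3)) +
        ((1 : F) • p0 + (1 : F) • p1 + ((1 : F) * -1) • S.C p2 + ((1 : F) * -1 * 1) • S.C (S.C p3)) -
        ((1 : F) • p0 + (-1 : F) • p1 + (1 : F) • S.C p2 + ((1 : F) * -1) • S.C (S.C p3)) -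
        ((1 : F) • (1 : F) • p0 + (-1 : F) • (1 : F) • p1 + (1 : F) • ((1 : F) * -1) • S.C p2 +
          ((1 : F) * -1) • ((1 : F) * -1 * 1) • S.C (S.C p3)) := by module
      rw [this, h', hI, hJ, hIJ]
      simp
    have e2 : p2 = 0 := by
      apply S.C0
      apply four
      have : (4 : F) • S.C p2 = (p0 + p1 + S.C p2 + S.C (S.C p3)) -
        ((1 : F) • p0 + (1 : F) • p1 + ((1 : F) * -1) • S.C p2 + ((1 : F) * -1 * 1) • S.C (S.C p3)) +
        ((1 : F) • p0 + (-1 : F) • p1 + (1 : F) • S.C p2 + ((1 : F) * -1) • S.C (S.C p3)) -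
        ((1 : F) • (1 : F) • p0 + (-1 : F) • (1 : F) • p1 + (1 : F) • ((1 : F) * -1) • S.C p2 +
          ((1 : F) * -1) • ((1 : F) * -1 * 1) • S.C (S.C p3)) := by module
      rw [this, h', hI, hJ, hIJ]
      simp
    have e3 : p3 = 0 := by
      apply S.C0
      apply S.C0
      rw [e0, e1, e2, map_zero] at h'
      simpa using h'
    subst e0 e1 e2 e3
    rfl
  have h1 := LinearMap.finrank_le_finrank_of_injective hinj
  rw [Module.finrank_prod, Module.finrank_prod, Module.finrank_prod, Module.finrank_fin_fun] at h1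
  omega

theorem two_le {v : V6} (hv : v ∈ S.U 1 (-1)) (h0 : v ≠ 0) : 2 ≤ Module.finrank F (S.U 1 (-1)) := by
  obtain ⟨w, hw, hw0⟩ := S.exists_w hv h0
  have hli : LinearIndependent F (![⟨v, hv⟩, ⟨w, hw⟩] : Fin 2 → S.U 1 (-1)) := by
    rw [Fintype.linearIndependent_iff]
    intro g hg
    rw [Fin.sum_univ_two] at hg
    have hg' : g 0 • v + g 1 • w = 0 := congrArg Subtype.val hg
    have k1 : g 1 * S.om' v w = 0 := by
      have := congrArg (fun x => S.om' v x) hg'
      simpa [S.alt] using this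
    have g1 := (mul_eq_zero.1 k1).resolve_right hw0
    rw [g1, zero_smul, add_zero] at hg'
    have g0 := (smul_eq_zero.1 hg').resolve_right h0
    intro i
    fin_cases i
    · exact g0
    · exact g1
  have h1 := hli.fintype_card_le_finrank
  rwa [Fintype.card_fin] at h1

/-- `T` is a scalar on `U 1 (-1)` -/
theorem T_scalar : ∃ s : F, s * s = 1 ∧ ∀ v ∈ S.U 1 (-1), S.T v = s • v := by
  by_contra hc
  push Not at hc
  obtain ⟨y, hy, hy0⟩ := hc 1 (by decide)
  obtain ⟨y', hy', hy0'⟩ := hc (-1) (by decide)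
  have hTU : ∀ w ∈ S.U 1 (-1), S.T w ∈ S.U 1 (-1) := by
    intro w hw
    have hw' := S.mem_U.1 hw
    rw [mem_U, ← S.TI, ← S.TJ, hw'.1, hw'.2, map_smul, map_smul]
    exact ⟨rfl, rfl⟩
  -- `v` with `T v = -v`, `v'` with `T v' = v'`
  have hv : y - S.T y ∈ S.U 1 (-1) := (S.U 1 (-1)).sub_mem hy (hTU _ hy)
  have hv0 : y - S.T y ≠ 0 := by
    intro h
    apply hy0
    rw [one_smul]
    exact (sub_eq_zero.1 h).symm
  have hvT : S.T (y - S.T y) = (-1 : F) • (y - S.T y) := by
    rw [map_sub, S.TT]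
    module
  have hv' : y' + S.T y' ∈ S.U 1 (-1) := (S.U 1 (-1)).add_mem hy' (hTU _ hy')
  have hv0' : y' + S.T y' ≠ 0 := by
    intro h
    apply hy0'
    rw [neg_smul, one_smul]
    exact eq_neg_of_add_eq_zero_right h
  have hvT' : S.T (y' + S.T y') = (1 : F) • (y' + S.T y') := by
    rw [map_add, S.TT]
    module
  generalize y - S.T y = v at hv hv0 hvT
  generalize y' + S.T y' = v' at hv' hv0' hvT'
  obtain ⟨w, hw, hwT, hw0⟩ := S.exists_w' hv hv0 (by decide) hvT
  obtain ⟨w', hw', hwT', hw0'⟩ := S.exists_w' hv' hv0' (by decide) hvT'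
  have orth : ∀ p p' : V6, S.T p = (-1 : F) • p → S.T p' = (1 : F) • p' → S.om' p p' = 0 := by
    intro p p' h1 h2
    have := S.iT p p'
    rw [h1, h2, map_smul, map_smul, LinearMap.smul_apply, smul_eq_mul, smul_eq_mul] at this
    have e : ∀ x : F, 1 * (-1 * x) = x → x = 0 := by decide
    exact e _ this
  have skew : ∀ u v, S.om' u v = -S.om' v u := by
    intro u v
    have h := S.alt (u + v)
    simp only [map_add, LinearMap.add_apply, S.alt] at h
    linear_combination h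
  have hli : LinearIndependent F (![⟨v, hv⟩, ⟨w, hw⟩, ⟨v', hv'⟩, ⟨w', hw'⟩] : Fin 4 → S.U 1 (-1)) := by
    rw [Fintype.linearIndependent_iff]
    intro g hg
    rw [Fin.sum_univ_four] at hg
    have hg' : g 0 • v + g 1 • w + g 2 • v' + g 3 • w' = 0 := congrArg Subtype.val hg
    have k1 : g 1 * S.om' v w = 0 := by
      have := congrArg (fun x => S.om' v x) hg'
      simpa [S.alt, orth v v' hvT hvT', orth v w' hvT hwT'] using this
    have k0 : g 0 * S.om' w v = 0 := by
      have := congrArg (fun x => S.om' w x) hg'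
      simpa [S.alt, orth w v' hwT hvT', orth w w' hwT hwT'] using this
    have k3 : g 3 * S.om' v' w' = 0 := by
      have := congrArg (fun x => S.om' v' x) hg'
      simpa [S.alt, skew v' v, skew v' w, orth v v' hvT hvT', orth w v' hwT hvT'] using this
    have k2 : g 2 * S.om' w' v' = 0 := by
      have := congrArg (fun x => S.om' w' x) hg'
      simpa [S.alt, skew w' v, skew w' w, orth v w' hvT hwT', orth w w' hwT hwT'] using this
    have n0 : S.om' w v ≠ 0 := by rw [skew]; exact neg_ne_zero.2 hw0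
    have n0' : S.om' w' v' ≠ 0 := by rw [skew]; exact neg_ne_zero.2 hw0'
    intro i
    fin_cases i
    · exact (mul_eq_zero.1 k0).resolve_right n0
    · exact (mul_eq_zero.1 k1).resolve_right hw0
    · exact (mul_eq_zero.1 k2).resolve_right n0'
    · exact (mul_eq_zero.1 k3).resolve_right hw0'
  have h1 := hli.fintype_card_le_finrank
  have h2 := S.finrank_le
  rw [Fintype.card_fin] at h1
  omega

theorem B_U {v : V6} (hv : v ∈ S.U 1 (-1)) : S.B v = v := by
  obtain ⟨s, hs, hT⟩ := S.T_scalar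
  have hv' := S.mem_U.1 hv
  have hB : S.B v ∈ S.U 1 (-1) := by
    rw [mem_U, ← S.BI, ← S.BJ, hv'.1, hv'.2, map_smul, map_smul]
    exact ⟨rfl, rfl⟩
  have h1 : S.B (S.B v) = v := by
    have h2 := S.BT v
    rw [hT _ hB, map_smul, hT _ hv] at h2
    have h3 : s • s • S.B (S.B v) = s • s • v := by rw [h2]
    rwa [smul_smul, smul_smul, hs, one_smul, one_smul] at h3
  have h5 := S.B5 v
  rw [h1, h1] at h5
  exact h5

/-- **`i² = 1` is impossible** -/
theorem main : (∀ v, S.I v = v) ∨ (∀ v, S.B v = v) := by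
  have four : ∀ v : V6, (4 : F) • v = 0 → v = 0 := fun v hv => (smul_eq_zero.1 hv).resolve_left (by decide)
  have c00 := S.comp_mem 1 1 (by decide) (by decide)
  have c01 := S.comp_mem 1 (-1) (by decide) (by decide)
  have c10 := S.comp_mem (-1) 1 (by decide) (by decide)
  have c11 := S.comp_mem (-1) (-1) (by decide) (by decide)
  have m10 : ∀ v ∈ S.U (-1) 1, S.C (S.C v) ∈ S.U 1 (-1) := by
    intro v hv
    have h1 := S.C_mem (by decide) (S.C_mem (by decide) hv)
    have e1 : (-1 * 1 * -1 : F) = 1 := by decide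
    have e2 : (-1 * 1 : F) = -1 := by decide
    rw [e1, e2] at h1
    exact h1
  have m11 : ∀ v ∈ S.U (-1) (-1), S.C v ∈ S.U 1 (-1) := by
    intro v hv
    have h1 := S.C_mem (by decide) hv
    have e1 : (-1 * -1 : F) = 1 := by decide
    rw [e1] at h1
    exact h1
  by_cases hU : ∀ v ∈ S.U 1 (-1), v = 0
  · left
    intro v
    have h10 : ∀ v ∈ S.U (-1) 1, v = 0 := fun v hv => S.C0 _ (S.C0 _ (hU _ (m10 v hv)))
    have h11 : ∀ v ∈ S.U (-1) (-1), v = 0 := fun v hv => S.C0 _ (hU _ (m11 v hv))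
    have e1 := h10 _ (c10 v)
    have e2 := h11 _ (c11 v)
    have e3 : (2 : F) • (v - S.I v) = 0 := by
      rw [← add_zero (0 : V6)]
      nth_rewrite 1 [← e1]
      rw [← e2]
      module
    have e4 := (smul_eq_zero.1 e3).resolve_left (by decide)
    exact (sub_eq_zero.1 e4).symm
  · right
    push Not at hU
    obtain ⟨v0, hv0, hv0'⟩ := hU
    have h1 := S.two_le hv0 hv0'
    have h2 := S.finrank_le
    have h3 : Module.finrank F (S.U 1 1) = 0 := by omega
    have h4 : ∀ v ∈ S.U 1 1, v = 0 := by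
      intro v hv
      have := Submodule.finrank_eq_zero.1 h3
      rw [this] at hv
      exact (Submodule.mem_bot F).1 hv
    intro v
    have b0 := h4 _ (c00 v)
    have b1 := S.B_U (c01 v)
    have b2 : ∀ v ∈ S.U (-1) 1, S.B v = v := by
      intro v hv
      have h5 := S.B_U (m10 v hv)
      rw [S.BC, S.BC] at h5
      have h6 : S.C (S.C (S.B v - v)) = 0 := by rw [map_sub, map_sub, h5, sub_self]
      exact sub_eq_zero.1 (S.C0 _ (S.C0 _ h6))
    have b3 : ∀ v ∈ S.U (-1) (-1), S.B v = v := by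
      intro v hv
      have h5 := S.B_U (m11 v hv)
      rw [S.BC] at h5
      have h6 : S.C (S.B v - v) = 0 := by rw [map_sub, h5, sub_self]
      exact sub_eq_zero.1 (S.C0 _ h6)
    have b2' := b2 _ (c10 v)
    have b3' := b3 _ (c11 v)
    have e : (4 : F) • v = (v + (1 : F) • S.I v + (1 : F) • S.J v + ((1 : F) * 1) • S.I (S.J v)) +
      (v + (1 : F) • S.I v + (-1 : F) • S.J v + ((1 : F) * -1) • S.I (S.J v)) +
      (v + (-1 : F) • S.I v + (1 : F) • S.J v + ((-1 : F) * 1) • S.I (S.J v)) +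
      (v + (-1 : F) • S.I v + (-1 : F) • S.J v + ((-1 : F) * -1) • S.I (S.J v)) := by module
    have e' : S.B ((4 : F) • v) = (4 : F) • v := by
      rw [e, map_add, map_add, map_add, b1, b2', b3', b0, map_zero]
    rw [map_smul] at e'
    have e'' : (4 : F) • (S.B v - v) = 0 := by rw [smul_sub, e', sub_self]
    exact sub_eq_zero.1 (four _ e'')

end PDat

end Cfsg.Agent.H255.M5D.Plus
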