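import Mathlib
import Cfsg.Agent.H777.M5.Sit
import Cfsg.Agent.H255.M5D.Coord
import Cfsg.Agent.H255.M5D.Plus

/-!
# `WOut` and `RelH` give `PData` (helper255, for helper777's S5232)
-/

set_option autoImplicit false

namespace Cfsg.Agent.H255.M5D

open Cfsg.Agent.H777.M5 Matrix Subgroup

attribute [-instance] AddSubgroupClass.instZModModule

variable {G : Type} [Group G] {S : Sit G}

/-- commuting with `x` and `z` -/
def Cm (S : Sit G) (h : G) : Prop := h * S.x = S.x * h ∧ h * S.z = S.z * h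

theorem Cm.mul {h k : G} (hh : Cm S h) (hk : Cm S k) : Cm S (h * k) := by
  constructor
  · rw [mul_assoc, hk.1, ← mul_assoc, hh.1, mul_assoc]
  · rw [mul_assoc, hk.2, ← mul_assoc, hh.2, mul_assoc]

theorem Cm.inv {h : G} (hh : Cm S h) : Cm S h⁻¹ :=
  ⟨(Commute.inv_left (show Commute h S.x from hh.1)), (Commute.inv_left (show Commute h S.z from hh.2))⟩

theorem Cm.pow {h : G} (hh : Cm S h) (n : ℕ) : Cm S (h ^ n) :=
  ⟨(Commute.pow_left (show Commute h S.x from hh.1) n), (Commute.pow_left (show Commute h S.z from hh.2) n)⟩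

theorem Cm.x (S : Sit G) : Cm S S.x := ⟨rfl, S.xz⟩
theorem Cm.z (S : Sit G) : Cm S S.z := ⟨S.xz.symm, rfl⟩
theorem Cm.one (S : Sit G) : Cm S 1 := ⟨by simp, by simp⟩

variable (W : WOut S)

theorem om_zero_right (u : V6) : W.om' u 0 = 0 := by
  have := W.add_right u 0 0
  rw [add_zero] at this
  exact left_eq_add.1 this

theorem om_neg_right (u v : V6) : W.om' u (-v) = -W.om' u v := by
  have := W.add_right u v (-v)
  rw [add_neg_cancel, om_zero_right] at this
  linear_combination -this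

theorem w_zero : W.w 0 = 1 := by
  have := W.w_mul 0 0
  rw [add_zero, W.alt, mul_zero, ZMod.val_zero, pow_zero, mul_one] at this
  exact mul_eq_left.1 this

theorem w_neg (v : V6) : W.w (-v) = (W.w v)⁻¹ := by
  have := W.w_mul v (-v)
  rw [add_neg_cancel, w_zero, om_neg_right, W.alt, neg_zero, mul_zero, ZMod.val_zero, pow_zero, mul_one] at this
  exact (inv_eq_of_mul_eq_one_right this).symm

theorem w_inj {u v : V6} (h : W.w u = W.w v) : u = v := by
  have h1 := W.w_mul u (-v)
  rw [w_neg, ← h, mul_inv_cancel] at h1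
  have h2 : W.w (u + -v) ∈ zpowers S.x := by
    rw [eq_comm, mul_eq_one_iff_eq_inv] at h1
    rw [h1]
    exact (zpowers S.x).inv_mem (npow_mem_zpowers S.x _)
  have h3 := W.w_ne _ h2
  rwa [← sub_eq_add_neg, sub_eq_zero] at h3

/-- the action as a linear map -/
def rh (h : G) : E6 := (W.rho h : V6 →ₗ[ZMod 5] V6)

theorem rh_w {h : G} (hh : Cm S h) (v : V6) : h * W.w v * h⁻¹ = W.w (rh W h v) := W.rho_w h hh.1 hh.2 v

theorem rh_mul {h k : G} (hh : Cm S h) (hk : Cm S k) : rh W (h * k) = rh W h * rh W k := by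
  refine LinearMap.ext fun v => ?_
  apply w_inj W
  rw [← rh_w W (hh.mul hk)]
  show _ = W.w (rh W h (rh W k v))
  rw [← rh_w W hh, ← rh_w W hk]
  group

theorem rh_one : rh W (1 : G) = 1 := by
  refine LinearMap.ext fun v => ?_
  apply w_inj W
  rw [← rh_w W (Cm.one S)]
  simp

theorem rh_z : rh W S.z = -1 := by
  refine LinearMap.ext fun v => ?_
  apply w_inj W
  rw [← rh_w W (Cm.z S), W.w_z]
  rfl

theorem rh_pow {h : G} (hh : Cm S h) (n : ℕ) : rh W (h ^ n) = rh W h ^ n := by
  induction n with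
  | zero => rw [pow_zero, pow_zero, rh_one]
  | succ n ih => rw [pow_succ, pow_succ, rh_mul W (hh.pow n) hh, ih]

theorem rh_om {h : G} (hh : Cm S h) (u v : V6) : W.om' (rh W h u) (rh W h v) = W.om' u v :=
  W.rho_om h hh.1 hh.2 u v

theorem rh_ker {h : G} (hh : Cm S h) (h1 : rh W h = 1) : h ∈ zpowers S.x :=
  W.rho_ker h hh.1 hh.2 (fun v => by
    show rh W h v = v
    rw [h1]
    rfl)

theorem rh_sign {h : G} (h1 : h = 1 ∨ h = S.z) : rh W h = 1 ∨ rh W h = -1 := by
  rcases h1 with rfl | rfl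
  · exact Or.inl (rh_one W)
  · exact Or.inr (rh_z W)

/-- the bilinear form -/
def omL : V6 →ₗ[F] V6 →ₗ[F] F :=
  LinearMap.mk₂ F W.om' W.add_left
    (fun c u v => by
      have := ZMod.map_smul (AddMonoidHom.mk' (fun u => W.om' u v) (fun a b => W.add_left a b v)) c u
      exact this)
    W.add_right
    (fun c u v => by
      have := ZMod.map_smul (AddMonoidHom.mk' (fun v => W.om' u v) (fun a b => W.add_right u a b)) c v
      exact this)

theorem omL_apply (u v : V6) : omL W u v = W.om' u v := rfl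

/-! ### the elements -/

variable (R : RelH S)

/-- `j = c i c⁻¹` -/
def jj : G := R.c * R.i * R.c⁻¹
/-- `t = b b'³ b³ b'` -/
def tt : G := R.b * R.b' ^ 3 * R.b ^ 3 * R.b'

theorem cm_i : Cm S R.i := ⟨R.ix, R.iz⟩
theorem cm_c : Cm S R.c := ⟨R.cx, R.cz⟩
theorem cm_b : Cm S R.b := ⟨R.bx, R.bz⟩
theorem cm_b' : Cm S R.b' := ⟨R.b'x, R.b'z⟩
theorem cm_a : Cm S R.a := ⟨R.ax, R.az⟩
theorem cm_j : Cm S (jj R) := ((cm_c R).mul (cm_i R)).mul (cm_c R).inv
theorem cm_t : Cm S (tt R) := (((cm_b R).mul ((cm_b' R).pow 3)).mul ((cm_b R).pow 3)).mul (cm_b' R)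

theorem j_sq : jj R * jj R = R.c * (R.i * R.i) * R.c⁻¹ := by unfold jj; group

theorem ij_sq : R.i * jj R * (R.i * jj R) = R.c * (jj R * jj R) * R.c⁻¹ := by
  have h : R.c * jj R * R.c⁻¹ = R.i * jj R := R.cj
  rw [← h]
  group

theorem comm_bj : Commute R.b (jj R) :=
  (((show Commute R.c R.b from R.cb).mul_left (show Commute R.i R.b from R.ib)).mul_left
    (Commute.inv_left (show Commute R.c R.b from R.cb))).symm

theorem comm_b'j : Commute R.b' (jj R) :=
  (((show Commute R.c R.b' from R.cb').mul_left (show Commute R.i R.b' from R.ib')).mul_left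
    (Commute.inv_left (show Commute R.c R.b' from R.cb'))).symm

theorem comm_t {y : G} (h1 : Commute R.b y) (h2 : Commute R.b' y) : Commute (tt R) y :=
  (((h1.mul_left (h2.pow_left 3)).mul_left (h1.pow_left 3)).mul_left h2)

theorem btb : R.b * tt R * R.b = tt R := by
  have h : tt R * R.b * (tt R)⁻¹ = R.b⁻¹ := R.tb
  have h1 : tt R * R.b = R.b⁻¹ * tt R := by rw [← h]; group
  rw [mul_assoc, h1]
  group

theorem b'tb' : R.b' * tt R * R.b' = tt R := by
  have h : tt R * R.b' * (tt R)⁻¹ = R.b'⁻¹ := R.tb'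
  have h1 : tt R * R.b' = R.b'⁻¹ * tt R := by rw [← h]; group
  rw [mul_assoc, h1]
  group

theorem aia : R.a * R.i * R.a = R.i := by
  have h := R.ia
  have h1 : R.i * R.a = R.a⁻¹ * R.i := by rw [← h]; group
  rw [mul_assoc, h1]
  group

theorem z_comm_c : R.c * S.z * R.c⁻¹ = S.z := by rw [R.cz]; group

theorem B_ne : rh W R.b ≠ 1 := fun h => R.b_ne (rh_ker W (cm_b R) h)

theorem apply_eq {X Y : E6} (h : X = Y) (v : V6) : X v = Y v := by rw [h]

/-- `i² = 1` is impossible -/
theorem ii_ne {S : Sit G} (W : WOut S) (R : RelH S) : R.i * R.i ≠ 1 := by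
  intro hii
  have hjj : jj R * jj R = 1 := by rw [j_sq, hii]; group
  have hij : R.i * jj R * (R.i * jj R) = 1 := by rw [ij_sq, hjj]; group
  have hij' : R.i * jj R = jj R * R.i := by
    have i1 : (R.i)⁻¹ = R.i := inv_eq_of_mul_eq_one_right hii
    have j1 : (jj R)⁻¹ = jj R := inv_eq_of_mul_eq_one_right hjj
    have ij1 : (R.i * jj R)⁻¹ = R.i * jj R := inv_eq_of_mul_eq_one_right hij
    rw [_root_.mul_inv_rev, i1, j1] at ij1
    exact ij1.symm
  have ci := cm_i R
  have cj := cm_j R
  have cc := cm_c R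
  have cb := cm_b R
  have ct := cm_t R
  have ti : Commute (tt R) R.i := comm_t R (show Commute R.b R.i from R.ib.symm) (show Commute R.b' R.i from R.ib'.symm)
  have tj : Commute (tt R) (jj R) := comm_t R (comm_bj R) (comm_b'j R)
  let P : Plus.PDat :=
    { om' := omL W
      alt := W.alt
      nd := W.nondeg
      I := rh W R.i
      J := rh W (jj R)
      T := rh W (tt R)
      C := rh W R.c
      B := rh W R.b
      iI := rh_om W ci
      iJ := rh_om W cj
      iT := rh_om W ct
      II := fun v => by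
        show (rh W R.i * rh W R.i) v = v
        rw [← rh_mul W ci ci, hii, rh_one]
        rfl
      JJ := fun v => by
        show (rh W (jj R) * rh W (jj R)) v = v
        rw [← rh_mul W cj cj, hjj, rh_one]
        rfl
      IJ := fun v => by
        show (rh W R.i * rh W (jj R)) v = (rh W (jj R) * rh W R.i) v
        rw [← rh_mul W ci cj, hij', rh_mul W cj ci]
      TI := fun v => by
        show (rh W (tt R) * rh W R.i) v = (rh W R.i * rh W (tt R)) v
        rw [← rh_mul W ct ci, ti.eq, rh_mul W ci ct]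
      TJ := fun v => by
        show (rh W (tt R) * rh W (jj R)) v = (rh W (jj R) * rh W (tt R)) v
        rw [← rh_mul W ct cj, tj.eq, rh_mul W cj ct]
      TT := fun v => by
        show (rh W (tt R) * rh W (tt R)) v = v
        rw [← rh_mul W ct ct, show tt R * tt R = 1 from R.t2, rh_one]
        rfl
      CI := fun v => by
        show (rh W R.c * rh W R.i) v = (rh W (jj R) * rh W R.c) v
        rw [← rh_mul W cc ci, ← rh_mul W cj cc]
        unfold jj
        congr 2
        group
      CJ := fun v => by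
        show (rh W R.c * rh W (jj R)) v = (rh W R.i * (rh W (jj R) * rh W R.c)) v
        rw [← rh_mul W cc cj, ← rh_mul W cj cc, ← rh_mul W ci (cj.mul cc)]
        have h : R.c * jj R * R.c⁻¹ = R.i * jj R := R.cj
        have h2 : R.c * jj R = R.i * (jj R * R.c) := by rw [← mul_assoc, ← h]; group
        rw [h2]
      C0 := fun v hv => (W.rho R.c).map_eq_zero_iff.1 hv
      BI := fun v => by
        show (rh W R.b * rh W R.i) v = (rh W R.i * rh W R.b) v
        rw [← rh_mul W cb ci, ← R.ib, rh_mul W ci cb]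
      BJ := fun v => by
        show (rh W R.b * rh W (jj R)) v = (rh W (jj R) * rh W R.b) v
        rw [← rh_mul W cb cj, (comm_bj R).eq, rh_mul W cj cb]
      BC := fun v => by
        show (rh W R.b * rh W R.c) v = (rh W R.c * rh W R.b) v
        rw [← rh_mul W cb cc, ← R.cb, rh_mul W cc cb]
      BT := fun v => by
        show (rh W R.b * rh W (tt R) * rh W R.b) v = rh W (tt R) v
        rw [← rh_mul W cb ct, ← rh_mul W (cb.mul ct) cb, btb]
      B5 := fun v => by
        have h : rh W R.b ^ 5 = 1 := by rw [← rh_pow W cb, R.b5, rh_one]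
        have h2 := apply_eq h v
        exact h2 }
  rcases P.main with h | h
  · have h1 : rh W R.i = 1 := LinearMap.ext h
    obtain ⟨k, hk⟩ := mem_zpowers_iff.1 (rh_ker W ci h1)
    apply R.i_ne
    have h2 : R.i ^ 5 = 1 := by
      rw [← hk, ← zpow_natCast, ← _root_.zpow_mul, mul_comm, _root_.zpow_mul, zpow_natCast]
      have : S.x ^ 5 = 1 := by rw [← S.x_ord]; exact pow_orderOf_eq_one _
      rw [this, _root_.one_zpow]
    have h3 : R.i ^ 2 = 1 := by rw [pow_two, hii]
    calc R.i = R.i ^ 5 * (R.i ^ 2)⁻¹ * (R.i ^ 2)⁻¹ := by group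
      _ = 1 := by rw [h2, h3]; simp
  · exact B_ne W R (LinearMap.ext h)

/-! ### the main case -/

section Ring

variable {R : Type*} [Ring R] {I J A I' J' : R}

/-- choose the sign of `J`: `(J A)³ = 1` -/
theorem exists_J (h : (J * A) * (J * A) * (J * A) = 1 ∨ (J * A) * (J * A) * (J * A) = -1) :
    ∃ J' : R, (J' = J ∨ J' = -J) ∧ (J' * A) * (J' * A) * (J' * A) = 1 := by
  rcases h with h | h
  · exact ⟨J, Or.inl rfl, h⟩
  · refine ⟨-J, Or.inr rfl, ?_⟩
    simp only [neg_mul, mul_neg, neg_neg]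
    rw [h, neg_neg]

theorem exists_I (h : (I * J * A) * (I * J * A) * ((I * J * A) * (I * J * A)) * (I * J * A) = 1 ∨
      (I * J * A) * (I * J * A) * ((I * J * A) * (I * J * A)) * (I * J * A) = -1) :
    ∃ I' : R, (I' = I ∨ I' = -I) ∧
      (I' * J * A) * (I' * J * A) * ((I' * J * A) * (I' * J * A)) * (I' * J * A) = 1 := by
  rcases h with h | h
  · exact ⟨I, Or.inl rfl, h⟩
  · refine ⟨-I, Or.inr rfl, ?_⟩
    simp only [neg_mul, mul_neg, neg_neg]
    rw [h, neg_neg]

theorem sign_J (hJ' : J' = J ∨ J' = -J)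
    (h : (I * J * A) * (I * J * A) * ((I * J * A) * (I * J * A)) * (I * J * A) = 1 ∨
      (I * J * A) * (I * J * A) * ((I * J * A) * (I * J * A)) * (I * J * A) = -1) :
    (I * J' * A) * (I * J' * A) * ((I * J' * A) * (I * J' * A)) * (I * J' * A) = 1 ∨
      (I * J' * A) * (I * J' * A) * ((I * J' * A) * (I * J' * A)) * (I * J' * A) = -1 := by
  rcases hJ' with rfl | rfl
  · exact h
  · simp only [neg_mul, mul_neg, neg_neg]
    rcases h with h | h
    · right; rw [h]
    · left; rw [h, neg_neg]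

theorem sq_sign (hI : I * I = -1) (hI' : I' = I ∨ I' = -I) : I' * I' = -1 := by
  rcases hI' with rfl | rfl <;> simp [hI]

theorem comm_sign (h : A * I = I * A) (hI' : I' = I ∨ I' = -I) : A * I' = I' * A := by
  rcases hI' with rfl | rfl <;> simp [h]

theorem aia_sign (h : A * I * A = I) (hI' : I' = I ∨ I' = -I) : A * I' * A = I' := by
  rcases hI' with rfl | rfl <;> simp [h]

theorem anti_sign (h : I * J = -(J * I)) (hI' : I' = I ∨ I' = -I) (hJ' : J' = J ∨ J' = -J) :
    I' * J' = -(J' * I') := by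
  rcases hI' with rfl | rfl <;> rcases hJ' with rfl | rfl <;> simp [h]

theorem anti_of (hI : I * I = -1) (hJ : J * J = -1) (h : I * J * (I * J) = -1) : I * J = -(J * I) := by
  have e1 : J * I * J = I := by
    have : I * (I * J * (I * J)) = (I * I) * (J * I * J) := by noncomm_ring
    rw [h, hI] at this
    simp only [mul_neg, mul_one, neg_mul, one_mul, neg_inj] at this
    exact this.symm
  calc I * J = J * I * J * J := by rw [e1]
    _ = J * I * (J * J) := by rw [mul_assoc]
    _ = -(J * I) := by rw [hJ, mul_neg, mul_one]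

end Ring

theorem rh_cube {h : G} (hh : Cm S h) (h1 : h ^ 3 = 1 ∨ h ^ 3 = S.z) :
    rh W h * rh W h * rh W h = 1 ∨ rh W h * rh W h * rh W h = -1 := by
  have := rh_sign W h1
  rw [rh_pow W hh, pow_succ, pow_two] at this
  exact this

theorem rh_fifth {h : G} (hh : Cm S h) (h1 : h ^ 5 = 1 ∨ h ^ 5 = S.z) :
    rh W h * rh W h * (rh W h * rh W h) * rh W h = 1 ∨ rh W h * rh W h * (rh W h * rh W h) * rh W h = -1 := by
  have h2 := rh_sign W h1
  rw [rh_pow W hh] at h2
  have e : rh W h ^ 5 = rh W h * rh W h * (rh W h * rh W h) * rh W h := by noncomm_ring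
  rwa [e] at h2

/-- an element over `-h` -/
theorem exists_sign {h : G} (hh : Cm S h) {X : E6} (hX : X = rh W h ∨ X = -rh W h) :
    ∃ h', (h' = h ∨ h' = h * S.z) ∧ Cm S h' ∧ rh W h' = X := by
  rcases hX with rfl | rfl
  · exact ⟨h, Or.inl rfl, hh, rfl⟩
  · refine ⟨h * S.z, Or.inr rfl, hh.mul (Cm.z S), ?_⟩
    rw [rh_mul W hh (Cm.z S), rh_z]
    refine LinearMap.ext fun v => ?_
    show rh W h (-v) = -(rh W h v)
    exact map_neg _ _

/-- **D**, with the action of `i`, `j`, `b'` -/
theorem exists_pdata2 {G : Type} [Group G] [Finite G] (S : Sit G) (W : WOut S) (R : RelH S) :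
    ∃ P : PData G, ∃ k : ℕ, P.x = S.x ^ k ∧ P.a = R.a ∧ P.b = R.b ∧
      (∃ L : V6 ≃ₗ[ZMod 5] V6, ∀ v, P.w v = W.w (L v)) ∧
      (∀ v, R.b' * P.w v * R.b'⁻¹ = P.w (bpM *ᵥ v)) ∧
      ∃ i j : G, (i = R.i ∨ i = R.i * S.z) ∧ (j = jj R ∨ j = jj R * S.z) ∧ i * S.x = S.x * i ∧ i * S.z = S.z * i ∧
        j * S.x = S.x * j ∧ j * S.z = S.z * j ∧ (∀ v, i * P.w v * i⁻¹ = P.w (iM *ᵥ v)) ∧
        ∀ v, j * P.w v * j⁻¹ = P.w (jM *ᵥ v) := by
  have hii : R.i * R.i = S.z := R.i2.resolve_left (ii_ne W R)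
  have hjj : jj R * jj R = S.z := by rw [j_sq, hii, z_comm_c]
  have hij : R.i * jj R * (R.i * jj R) = S.z := by rw [ij_sq, hjj, z_comm_c]
  have ci := cm_i R
  have cj := cm_j R
  have ca := cm_a R
  have cb := cm_b R
  have cb' := cm_b' R
  have ct := cm_t R
  have ti : Commute (tt R) R.i := comm_t R (show Commute R.b R.i from R.ib.symm) (show Commute R.b' R.i from R.ib'.symm)
  have tj : Commute (tt R) (jj R) := comm_t R (comm_bj R) (comm_b'j R)
  set I := rh W R.i with hI
  set J := rh W (jj R) with hJ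
  set T := rh W (tt R) with hT
  set A := rh W R.a with hA
  set B := rh W R.b with hB
  set B' := rh W R.b' with hB'
  have II : I * I = -1 := by rw [hI, ← rh_mul W ci ci, hii, rh_z]
  have JJ : J * J = -1 := by rw [hJ, ← rh_mul W cj cj, hjj, rh_z]
  have IJIJ : I * J * (I * J) = -1 := by
    rw [hI, hJ, ← rh_mul W ci cj, ← rh_mul W (ci.mul cj) (ci.mul cj), hij, rh_z]
  have IJ : I * J = -(J * I) := anti_of II JJ IJIJ
  obtain ⟨J', hJ', hJA⟩ := exists_J (rh_cube W (cj.mul ca) R.ja |> fun h => by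
    rw [rh_mul W cj ca] at h
    exact h)
  have hIJA0 := rh_fifth W ((ci.mul cj).mul ca) R.ija
  rw [rh_mul W (ci.mul cj) ca, rh_mul W ci cj] at hIJA0
  obtain ⟨I', hI', hIJA⟩ := exists_I (sign_J hJ' hIJA0)
  have iI : ∀ u v, omL W (I u) (I v) = omL W u v := rh_om W ci
  have iJ : ∀ u v, omL W (J u) (J v) = omL W u v := rh_om W cj
  have TI : T * I = I * T := by rw [hT, hI, ← rh_mul W ct ci, ti.eq, rh_mul W ci ct]
  have TJ : T * J = J * T := by rw [hT, hJ, ← rh_mul W ct cj, tj.eq, rh_mul W cj ct]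
  let Q : Base :=
    { om' := omL W
      alt := W.alt
      nd := W.nondeg
      I := I'
      J := J'
      T := T
      iI := by
        rcases hI' with rfl | rfl
        · exact iI
        · intro u v
          simp only [LinearMap.neg_apply, map_neg, neg_neg]
          exact iI u v
      iJ := by
        rcases hJ' with rfl | rfl
        · exact iJ
        · intro u v
          simp only [LinearMap.neg_apply, map_neg, neg_neg]
          exact iJ u v
      iT := rh_om W ct
      II := sq_sign II hI'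
      JJ := sq_sign JJ hJ'
      IJ := anti_sign IJ hI' hJ'
      TI := comm_sign TI hI'
      TJ := comm_sign TJ hJ'
      TT := by rw [hT, ← rh_mul W ct ct, show tt R * tt R = 1 from R.t2, rh_one] }
  have uB : Uni Q B :=
    { iX := rh_om W cb
      XI := by
        have : B * I = I * B := by rw [hB, hI, ← rh_mul W cb ci, ← R.ib, rh_mul W ci cb]
        exact comm_sign this hI'
      XJ := by
        have : B * J = J * B := by rw [hB, hJ, ← rh_mul W cb cj, (comm_bj R).eq, rh_mul W cj cb]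
        exact comm_sign this hJ'
      XT := by
        show B * T * B = T
        rw [hB, hT, ← rh_mul W cb ct, ← rh_mul W (cb.mul ct) cb, btb]
      X5 := by rw [hB, ← rh_pow W cb, R.b5, rh_one] }
  have uB' : Uni Q B' :=
    { iX := rh_om W cb'
      XI := by
        have : B' * I = I * B' := by rw [hB', hI, ← rh_mul W cb' ci, ← R.ib', rh_mul W ci cb']
        exact comm_sign this hI'
      XJ := by
        have : B' * J = J * B' := by rw [hB', hJ, ← rh_mul W cb' cj, (comm_b'j R).eq, rh_mul W cj cb']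
        exact comm_sign this hJ'
      XT := by
        show B' * T * B' = T
        rw [hB', hT, ← rh_mul W cb' ct, ← rh_mul W (cb'.mul ct) cb', b'tb']
      X5 := by rw [hB', ← rh_pow W cb', R.b'5, rh_one] }
  have AB : A * B = B * A := by rw [hA, hB, ← rh_mul W ca cb, R.ab, rh_mul W cb ca]
  have AT : A * T = T * A := by
    rw [hA, hT, ← rh_mul W ca ct, ← rh_mul W ct ca, show R.a * tt R = tt R * R.a from R.ta.symm]
  have AI : A * I * A = I := by rw [hA, hI, ← rh_mul W ca ci, ← rh_mul W (ca.mul ci) ca, aia]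
  have A5 : A * A * (A * A) * A = 1 := by
    have h : A ^ 5 = 1 := by rw [hA, ← rh_pow W ca, R.a5, rh_one]
    have e : A ^ 5 = A * A * (A * A) * A := by noncomm_ring
    rw [← e, h]
  have BB3 : (B * B') * (B * B') * (B * B') = 1 ∨ (B * B') * (B * B') * (B * B') = -1 := by
    have h := rh_cube W (cb.mul cb') R.bb'
    rwa [rh_mul W cb cb'] at h
  have BB2 : (B * (B' * B')) * (B * (B' * B')) = 1 ∨ (B * (B' * B')) * (B * (B' * B')) = -1 := by
    have h := rh_sign W R.bb'2
    rwa [rh_pow W (cb.mul (cb'.pow 2)), rh_mul W cb (cb'.pow 2), rh_pow W cb', pow_two, pow_two] at h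
  have AB15 : ∀ m m3 m5 : E6, m = A * B' → m3 = m * m * m → m5 = m3 * m * m → m5 * m5 * m5 = 1 ∨ m5 * m5 * m5 = -1 := by
    rintro m m3 m5 hm rfl rfl
    have h := rh_sign W R.ab'15
    rw [rh_pow W (ca.mul cb'), rh_mul W ca cb', ← hA, ← hB', ← hm] at h
    have e : m * m * m * m * m * (m * m * m * m * m) * (m * m * m * m * m) = m ^ 15 := by
      have e5 : m * m * m * m * m = m ^ 5 := by simp only [pow_succ, pow_zero, one_mul]
      rw [e5, ← pow_add, ← pow_add]
    rwa [e]
  have ne : A * B' ≠ B' * A := by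
    intro h
    apply R.ab'_ne
    have hc : Cm S (R.a * R.b' * R.a⁻¹ * R.b'⁻¹) := ((ca.mul cb').mul ca.inv).mul cb'.inv
    apply rh_ker W hc
    have e1 : R.a * R.b' * R.a⁻¹ * R.b'⁻¹ = (R.a * R.b') * (R.b' * R.a)⁻¹ := by group
    have e2 : rh W (R.a * R.b') = rh W (R.b' * R.a) := by rw [rh_mul W ca cb', rh_mul W cb' ca, h]
    rw [e1, rh_mul W (ca.mul cb') (cb'.mul ca).inv, e2, ← rh_mul W (cb'.mul ca) (cb'.mul ca).inv, mul_inv_cancel,
      rh_one]
  obtain ⟨L, κ, hκ, hom, hLA, hLB, hLI, hLJ, hLB'⟩ := main_lin Q (A := A) (B := B) (B' := B') uB uB' (B_ne W R) AB AT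
    (aia_sign AI hI')
    A5 hJA hIJA BB3 BB2 AB15 ne
  have hx5 : S.x ^ 5 = 1 := by rw [← S.x_ord]; exact pow_orderOf_eq_one _
  have hxv : ∀ c : ZMod 5, (S.x ^ κ.val) ^ c.val = S.x ^ (κ * c).val := by
    intro c
    have e : ∀ n : ℕ, S.x ^ (n % 5) = S.x ^ n := by
      intro n
      have h := pow_mod_orderOf S.x n
      rwa [S.x_ord] at h
    rw [← pow_mul, ZMod.val_mul, e]
  have hxk : ∀ v, S.x ^ κ.val * W.w v = W.w v * S.x ^ κ.val := by
    intro v
    exact (Commute.pow_left (show Commute S.x (W.w v) from (W.w_x v).symm) _)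
  obtain ⟨i', hi1, hi2, hi3⟩ := exists_sign W ci hI'
  obtain ⟨j', hj1, hj2, hj3⟩ := exists_sign W cj hJ'
  refine ⟨
    { w := fun v => W.w (L v)
      x := S.x ^ κ.val
      a := R.a
      b := R.b
      x_ne := by
        intro h
        have h1 := orderOf_dvd_of_pow_eq_one h
        rw [S.x_ord] at h1
        have h2 : κ.val < 5 := ZMod.val_lt κ
        have h3 : κ.val ≠ 0 := by rwa [Ne, ZMod.val_eq_zero]
        have := Nat.le_of_dvd (Nat.pos_of_ne_zero h3) h1
        omega
      x_five := by rw [← pow_mul, mul_comm, pow_mul, hx5, one_pow]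
      a_five := R.a5
      b_five := R.b5
      a_b := R.ab
      x_w := fun v => hxk _
      x_a := (Commute.pow_left (show Commute S.x R.a from R.ax.symm) _)
      x_b := (Commute.pow_left (show Commute S.x R.b from R.bx.symm) _)
      w_mul := by
        intro u v
        rw [W.w_mul, map_add, hxv]
        congr 2
        have := hom u v
        have h2 : W.om' (L u) (L v) = κ * om u v := this
        rw [h2]
        ring_nf
      a_w := by
        intro v
        rw [rh_w W ca]
        exact congrArg W.w (hLA v)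
      b_w := by
        intro v
        rw [rh_w W cb]
        exact congrArg W.w (hLB v) }, κ.val, rfl, rfl, rfl, ⟨L, fun v => rfl⟩, ?_, i', j', hi1, hj1, hi2.1, hi2.2,
    hj2.1, hj2.2, ?_, ?_⟩
  · intro v
    show R.b' * W.w (L v) * R.b'⁻¹ = W.w (L (bpM *ᵥ v))
    rw [rh_w W cb']
    exact congrArg W.w (hLB' v)
  · intro v
    show i' * W.w (L v) * i'⁻¹ = W.w (L (iM *ᵥ v))
    rw [rh_w W hi2, hi3]
    exact congrArg W.w (hLI v)
  · intro v
    show j' * W.w (L v) * j'⁻¹ = W.w (L (jM *ᵥ v))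
    rw [rh_w W hj2, hj3]
    exact congrArg W.w (hLJ v)

/-- **D** -/
theorem exists_pdata {G : Type} [Group G] [Finite G] (S : Sit G) (W : WOut S) (R : RelH S) :
    ∃ P : PData G, ∃ k : ℕ, P.x = S.x ^ k ∧ P.a = R.a ∧ P.b = R.b ∧
      ∃ L : V6 ≃ₗ[ZMod 5] V6, ∀ v, P.w v = W.w (L v) := by
  obtain ⟨P, k, h1, h2, h3, h4, -⟩ := exists_pdata2 S W R
  exact ⟨P, k, h1, h2, h3, h4⟩

end Cfsg.Agent.H255.M5D
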